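import Groth.Agent.SchemeMorphisms.PrinParts.Gen
import Groth.Agent.SchemeMorphisms.MorSch.IdealTools
import Groth.Agent.Divisors.IdealComap

/-!
# The symmetry of the neighbourhoods of the diagonal; surjectivity of functoriality maps
-/

universe u

open CategoryTheory Limits AlgebraicGeometry Opposite TopologicalSpace
open Groth.OmegaSheaf Groth.QCohMod

namespace Groth.PrinPartsAux

theorem exists_swap {X S : Scheme.{u}} (f : X ⟶ S) (n : ℕ) :
    ∃ σ : PrinPart.nbhd f n ⟶ PrinPart.nbhd f n,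
      σ ≫ PrinPart.nbhdι f n = PrinPart.nbhdι f n ≫ (pullbackSymmetry f f).hom ∧
      σ ≫ σ = 𝟙 (PrinPart.nbhd f n) ∧
      σ ≫ PrinPart.pr1 f n = PrinPart.pr2 f n ∧ σ ≫ PrinPart.pr2 f n = PrinPart.pr1 f n ∧
      PrinPart.toNbhd f n ≫ σ = PrinPart.toNbhd f n := by
  let s : pullback f f ⟶ pullback f f := (pullbackSymmetry f f).hom
  have hss : s ≫ s = 𝟙 _ := by
    refine pullback.hom_ext ?_ ?_ <;> simp [s]
  have hds : pullback.diagonal f ≫ s = pullback.diagonal f := by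
    refine pullback.hom_ext ?_ ?_ <;> simp [s]
  let O := (pullback.diagonal f).coborderRange
  have hO : s ⁻¹ᵁ O = O := by
    refine Opens.ext ?_
    change (Scheme.homeoOfIso (pullbackSymmetry f f)) ⁻¹' coborder (Set.range (pullback.diagonal f)) = _
    rw [← coborder_preimage (Homeomorph.isOpenMap _) (Homeomorph.continuous _)]
    congr 1
    ext z
    constructor
    · rintro ⟨x, hx⟩
      refine ⟨x, ?_⟩
      change _ = s z at hx
      have h := congr(($hss) z)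
      rw [Scheme.Hom.comp_apply, ← hx, ← Scheme.Hom.comp_apply, hds] at h
      exact h
    · rintro ⟨x, rfl⟩
      exact ⟨x, congr(($hds.symm) x)⟩
  let s' : O.toScheme ⟶ O.toScheme := s.resLE O O hO.ge
  have hs' : s' ≫ O.ι = O.ι ≫ s := Scheme.Hom.resLE_comp_ι _ _
  have hs's' : s' ≫ s' = 𝟙 _ := by
    rw [← cancel_mono O.ι, Category.assoc, hs', reassoc_of% hs', hss, Category.comp_id,
      Category.id_comp]
  have : IsIso s' := ⟨s', hs's', hs's'⟩
  let c := PrinPart.diagCl f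
  have hc : c ≫ s' = c := by
    rw [← cancel_mono O.ι, Category.assoc, hs', Scheme.Hom.liftCoborder_ι_assoc,
      Scheme.Hom.liftCoborder_ι, hds]
  have : IsClosedImmersion (c ≫ s') := by rw [hc]; infer_instance
  have hI : c.ker.comap s' = c.ker := by
    have h := Groth.MorSchAux.comap_ker_comp_mono c s'
    rwa [hc] at h
  let i := PrinPart.infNbhdι c n
  have : IsClosedImmersion i :=
    inferInstanceAs (IsClosedImmersion (c.ker ^ (n + 1)).subschemeι)
  have hker : i.ker ≤ (i ≫ s').ker := by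
    rw [← Scheme.IdealSheafData.map_ker i s', Scheme.IdealSheafData.le_map_iff_comap_le]
    change Scheme.IdealSheafData.comap (c.ker ^ (n + 1)).subschemeι.ker s' ≤ (c.ker ^ (n + 1)).subschemeι.ker
    rw [Scheme.IdealSheafData.ker_subschemeι, Groth.Divisors.comap_pow, hI]
  let σ : PrinPart.nbhd f n ⟶ PrinPart.nbhd f n := IsClosedImmersion.lift i (i ≫ s') hker
  have hσ : σ ≫ i = i ≫ s' := IsClosedImmersion.lift_fac _ _ _
  have hι : σ ≫ PrinPart.nbhdι f n = PrinPart.nbhdι f n ≫ s := by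
    change σ ≫ i ≫ O.ι = (i ≫ O.ι) ≫ s
    rw [reassoc_of% hσ, hs', Category.assoc]
  have : Mono (PrinPart.nbhdι f n) := mono_comp i O.ι
  refine ⟨σ, hι, ?_, ?_, ?_, ?_⟩
  · rw [← cancel_mono (PrinPart.nbhdι f n), Category.assoc, hι, reassoc_of% hι, hss,
      Category.comp_id, Category.id_comp]
  · rw [PrinPart.pr1, PrinPart.pr2, ← Category.assoc, hι, Category.assoc]
    congr 1
    exact pullbackSymmetry_hom_comp_fst f f
  · rw [PrinPart.pr1, PrinPart.pr2, ← Category.assoc, hι, Category.assoc]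
    congr 1
    exact pullbackSymmetry_hom_comp_snd f f
  · rw [← cancel_mono (PrinPart.nbhdι f n), Category.assoc, hι, PrinPart.toNbhd_ι_assoc,
      PrinPart.toNbhd_ι, hds]

theorem cancel_app {X : Scheme.{u}} {M N K : X.Modules} (φ : M ⟶ N) (a b : N ⟶ K) (h : φ ≫ a = φ ≫ b)
    (U : X.Opens) (m : Γ(M, U)) : a.app U (φ.app U m) = b.app U (φ.app U m) := by
  have := congr(Scheme.Modules.Hom.app $h U m)
  exact this

theorem epi_pMap_id {X Y Z : Scheme.{u}} (f : X ⟶ Y) (g : Y ⟶ Z) (n : ℕ)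
    (φ : (Scheme.Modules.pullback (𝟙 X)).obj (PrinPart.P (f ≫ g) n) ⟶ PrinPart.P f n)
    (hφ : PrinPart.IsPMap (f ≫ g) f (𝟙 X) n φ) : Epi φ := by
  refine ⟨fun {G} a b h => hom_ext' f n _ a b fun U t => ?_⟩
  have h2 := cancel_app φ a b h _
    (OmegaSh.pullSect (𝟙 X) _ U (PrinPart.dn (f ≫ g) n U (OmegaSh.fnSect X U t)))
  have h1 := hφ U (OmegaSh.fnSect X U t)
  have h3 := (congrArg (a.app ((𝟙 X) ⁻¹ᵁ U)) h1).symm.trans (h2.trans (congrArg (b.app ((𝟙 X) ⁻¹ᵁ U)) h1))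
  exact h3

theorem epi_pMap_closed {X Y Z : Scheme.{u}} (f : Y ⟶ Z) (j : X ⟶ Y) [IsClosedImmersion j] (n : ℕ)
    (φ : (Scheme.Modules.pullback j).obj (PrinPart.P f n) ⟶ PrinPart.P (j ≫ f) n)
    (hφ : PrinPart.IsPMap f (j ≫ f) j n φ) : Epi φ := by
  refine ⟨fun {G} a b h => hom_ext (j ≫ f) n _ a b fun U t x hx => ?_⟩
  obtain ⟨O, hO, hOU⟩ := j.isClosedEmbedding.isInducing.isOpen_iff.mp U.isOpen
  have hxO : j x ∈ O := by
    have : x ∈ j ⁻¹' O := hOU ▸ hx
    exact this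
  obtain ⟨_, ⟨W, hW, rfl⟩, hxW, hWO⟩ :=
    Y.isBasis_affineOpens.exists_subset_of_mem_open hxO hO
  have hle : j ⁻¹ᵁ W ≤ U := fun z hz => by
    have : z ∈ j ⁻¹' O := hWO hz
    rw [hOU] at this
    exact this
  obtain ⟨w, hw⟩ := j.app_surjective W hW (OmegaSh.fnSect X _ (res (Coh.structureModule X) hle t))
  refine ⟨j ⁻¹ᵁ W, hle, hxW, ?_⟩
  have h2 := cancel_app φ a b h (j ⁻¹ᵁ W) (OmegaSh.pullSect j _ W (PrinPart.dn f n W w))
  have h1 := (hφ W w).trans (congrArg (PrinPart.dn (j ≫ f) n (j ⁻¹ᵁ W)) hw)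
  exact (congrArg (a.app (j ⁻¹ᵁ W)) h1).symm.trans (h2.trans (congrArg (b.app (j ⁻¹ᵁ W)) h1))

end Groth.PrinPartsAux
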