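import Groth.Agent.SchemeMorphisms.PrinParts.PMapIso
import Groth.Agent.SchemeMorphisms.PrinParts.Maps
import Groth.Agent.Misc8.PinchFlat
import Groth.Agent.QCohMod.Stalk
import Groth.Agent.QCohMod.Pullback
import Mathlib.AlgebraicGeometry.Morphisms.Flat
import Mathlib.Algebra.Homology.ShortComplex.ExactFunctor

/-!
# Exactness of principal parts when they are flat
-/

universe u

open CategoryTheory Limits AlgebraicGeometry Opposite TopologicalSpace TensorProduct
open Groth.OmegaSheaf
open Groth.QCohMod (germ exists_germ pullStalkEquiv pullStalkHom pullStalkHom_tmul pullGerm_germ stalkAlg)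

namespace Groth.PrinPartsAux

section Pullback

variable {X Y : Scheme.{u}} (g : Y ⟶ X)

lemma stalk_map_pullback {M N : X.Modules} (φ : M ⟶ N) (y : Y) :
    letI := stalkAlg g y
    ∀ (φ' : M.presheaf.stalk (g y) →ₗ[X.presheaf.stalk (g y)] N.presheaf.stalk (g y)),
      (∀ t, φ' t = (Groth.QCohMod.stalk (g y)).map φ t) →
      ∀ z, (Groth.QCohMod.stalk y).map ((Scheme.Modules.pullback g).map φ) (pullStalkEquiv g M y z) =
        pullStalkEquiv g N y (φ'.lTensor _ z) := by
  let _ := stalkAlg g y
  intro φ' hφ' z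
  change stalkApp ((Scheme.Modules.pullback g).map φ) y (pullStalkHom g M y z) =
    pullStalkHom g N y (φ'.lTensor _ z)
  induction z using TensorProduct.induction_on with
  | zero => simp
  | add a b ha hb => simp only [map_add, ha, hb]
  | tmul r t =>
    obtain ⟨U, hU, m, rfl⟩ := exists_germ M _ t
    rw [LinearMap.lTensor_tmul, pullStalkHom_tmul, pullStalkHom_tmul, stalk_map_smul, hφ']
    change r • stalkApp _ y _ = r • Groth.QCohMod.pullGerm g N y (stalkApp φ (g y) _)
    rw [stalkApp_germ, pullGerm_germ, pullGerm_germ, stalkApp_germ, Groth.PicAux.pullSec_map]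

theorem mono_pullback_map [Flat g] {M N : X.Modules} (φ : M ⟶ N) [Mono φ] :
    Mono ((Scheme.Modules.pullback g).map φ) := by
  rw [Groth.QCohMod.mono_iff_stalk]
  intro y
  let _ := stalkAlg g y
  have : Module.Flat (X.presheaf.stalk (g y)) (Y.presheaf.stalk y) := Flat.stalkMap g y
  let φ' : M.presheaf.stalk (g y) →ₗ[X.presheaf.stalk (g y)] N.presheaf.stalk (g y) :=
    { toFun := fun t => stalkApp φ (g y) t
      map_add' := map_add _
      map_smul' := fun r t => stalk_map_smul φ (g y) r t }
  have hφ' : Function.Injective φ' := (Groth.QCohMod.mono_iff_stalk φ).mp ‹_› (g y)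
  intro a b hab
  obtain ⟨a, rfl⟩ := (pullStalkEquiv g M y).surjective a
  obtain ⟨b, rfl⟩ := (pullStalkEquiv g M y).surjective b
  rw [stalk_map_pullback g φ y φ' (fun _ => rfl), stalk_map_pullback g φ y φ' (fun _ => rfl)] at hab
  exact congrArg _ (Module.Flat.lTensor_preserves_injective_linearMap φ' hφ'
    ((pullStalkEquiv g N y).injective hab))

theorem preservesFiniteLimits_pullback [Flat g] :
    PreservesFiniteLimits (Scheme.Modules.pullback g) := by
  have hl : (Scheme.Modules.pullback g).IsLeftAdjoint :=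
    (Scheme.Modules.pullbackPushforwardAdjunction g).isLeftAdjoint
  have : (Scheme.Modules.pullback g).Additive :=
    Adjunction.left_adjoint_additive (Scheme.Modules.pullbackPushforwardAdjunction g)
  have := (Scheme.Modules.pullbackPushforwardAdjunction g).leftAdjoint_preservesColimits
  rw [(Scheme.Modules.pullback g).preservesFiniteLimits_iff_forall_exact_map_and_mono]
  intro S hS
  have := hS.mono_f
  exact ⟨((Functor.preservesFiniteColimits_iff_forall_exact_map_and_epi _).mp inferInstance S hS).1,
    mono_pullback_map g S.f⟩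

end Pullback

variable {X S : Scheme.{u}} (f : X ⟶ S) (n : ℕ)

theorem flat_pr1 (hP : FlatMod.IsFlat (PrinPart.P f n)) : Flat (PrinPart.pr1 f n) := by
  have := isAffineHom_pr1 f n
  have : (PrinPart.P f n).IsQuasicoherent := isQCoh_PMod f n _ inferInstance
  rw [IsZariskiLocalAtTarget.iff_of_iSup_eq_top (P := @Flat)
    (fun U : X.affineOpens => (U : X.Opens)) (iSup_affineOpens_eq_top X)]
  intro U
  have : IsAffine (U : X.Opens).toScheme := U.2
  have : IsAffine (PrinPart.pr1 f n ⁻¹ᵁ (U : X.Opens)).toScheme := U.2.preimage (PrinPart.pr1 f n)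
  rw [HasRingHomProperty.iff_of_isAffine (P := @Flat)]
  have h : ∀ W : X.Opens, W = U.1 → ((PrinPart.pr1 f n).app W).hom.Flat := by
    rintro W rfl
    let _ := ((PrinPart.pr1 f n).app U.1).hom.toAlgebra
    have := Groth.Misc8.PinchMod.flat_sections _ hP U.2
    let fn : Γ(PrinPart.P f n, U.1) ≃ₗ[Γ(X, U.1)] Γ(PrinPart.nbhd f n, nbW f n U.1) :=
      LinearEquiv.ofBijective
        { toFun := fnP f n U.1
          map_add' := map_add _
          map_smul' := fun b s => fnP_smul f n U.1 b s }
        (fnP_bijective f n U.1)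
    exact Module.Flat.of_linearEquiv fn.symm
  rw [morphismRestrict_appTop]
  exact RingHom.Flat.comp (h _ (Scheme.Opens.ι_image_top _))
    (RingHom.Flat.of_bijective (ConcreteCategory.bijective_of_isIso _))

theorem flat_pr2 (hP : FlatMod.IsFlat (PrinPart.P f n)) : Flat (PrinPart.pr2 f n) := by
  have := flat_pr1 f n hP
  obtain ⟨σ, -, hσ, h1, -, -⟩ := exists_swap f n
  have : IsIso σ := ⟨σ, hσ, hσ⟩
  rw [← h1]
  infer_instance

theorem preservesFiniteLimits_PMod (hP : FlatMod.IsFlat (PrinPart.P f n)) :
    PreservesFiniteLimits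
      ((Scheme.Modules.pullback (PrinPart.pr2 f n)) ⋙
        (Scheme.Modules.pushforward (PrinPart.pr1 f n))) := by
  have := flat_pr2 f n hP
  have := preservesFiniteLimits_pullback (PrinPart.pr2 f n)
  have := (Scheme.Modules.pullbackPushforwardAdjunction (PrinPart.pr1 f n)).rightAdjoint_preservesLimits
  infer_instance

end Groth.PrinPartsAux
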