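import Groth.Agent.OmegaSheaf.ConormalExact
import Groth.Agent.OmegaSheaf.ConormalTrans
import Groth.Agent.QCohMod.PullbackQCoh

/-!
# The first exact sequence of differentials
-/

universe u

open CategoryTheory Limits AlgebraicGeometry Opposite TopologicalSpace TensorProduct
open Groth.OmegaSheaf
open Groth.QCohMod (res res_res res_smul res_app res_self sectionsAlg)

namespace Groth.PrinPartsAux

variable {X Y Z : Scheme.{u}} {f : X ⟶ Y} {g : Y ⟶ Z}
  {ΩY : Y.Modules} {dY : OmegaSh.Der g ΩY} {ΩX : X.Modules} {dX : OmegaSh.Der (f ≫ g) ΩX}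
  {ΩXY : X.Modules} {dXY : OmegaSh.Der f ΩXY}
  {c₁ : (Scheme.Modules.pullback f).obj ΩY ⟶ ΩX}
  {c₂ : (Scheme.Modules.pullback (𝟙 X)).obj ΩX ⟶ ΩXY}

/-- `Ω_{X/Z} ⟶ Ω_{X/Y}`. -/
noncomputable def secondMap (c₂ : (Scheme.Modules.pullback (𝟙 X)).obj ΩX ⟶ ΩXY) : ΩX ⟶ ΩXY :=
  (Scheme.Modules.pullbackId X).inv.app ΩX ≫ c₂

lemma secondMap_d (hc₂ : OmegaSh.IsDiffCompat (𝟙 X) dX dXY c₂) (U : X.Opens) (s : Γ(X, U)) :
    (secondMap c₂).app U (dX.app U s) = dXY.app U s := by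
  change c₂.app U (((Scheme.Modules.pullbackId X).inv.app ΩX).app U (dX.app U s)) = _
  rw [pullbackId_inv_app]
  exact hc₂ U s

section Chart

variable {P : X.Opens} {U : Y.Opens} {V : Z.Opens} (eP : P ≤ f ⁻¹ᵁ U) (eU : U ≤ g ⁻¹ᵁ V)

lemma tower_chart :
    letI := chartAlg g eU
    letI := chartAlg f eP
    letI := chartAlg (f ≫ g) (eP.trans (f.preimage_mono eU))
    IsScalarTower Γ(Z, V) Γ(Y, U) Γ(X, P) :=
  letI := chartAlg g eU
  letI := chartAlg f eP
  letI := chartAlg (f ≫ g) (eP.trans (f.preimage_mono eU))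
  IsScalarTower.of_algebraMap_eq fun r => by
    change (f ≫ g).appLE V P _ r = (g.appLE V U eU ≫ f.appLE U P eP) r
    rw [Scheme.Hom.appLE_comp_appLE]

lemma secondMap_chartLift (hc₂ : OmegaSh.IsDiffCompat (𝟙 X) dX dXY c₂) :
    letI := chartAlg g eU
    letI := chartAlg f eP
    letI := chartAlg (f ≫ g) (eP.trans (f.preimage_mono eU))
    haveI := tower_chart eP eU
    ∀ w : Ω[Γ(X, P)⁄Γ(Z, V)],
      (secondMap c₂).app P (chartLift (f ≫ g) (eP.trans (f.preimage_mono eU)) dX w) =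
        chartLift f eP dXY (KaehlerDifferential.map Γ(Z, V) Γ(Y, U) Γ(X, P) Γ(X, P) w) := by
  let _ := chartAlg g eU
  let _ := chartAlg f eP
  let _ := chartAlg (f ≫ g) (eP.trans (f.preimage_mono eU))
  have := tower_chart eP eU
  intro w
  have hw : w ∈ Submodule.span Γ(X, P) (Set.range (KaehlerDifferential.D Γ(Z, V) Γ(X, P))) := by
    rw [KaehlerDifferential.span_range_derivation]; trivial
  induction hw using Submodule.span_induction with
  | mem w hw =>
    obtain ⟨s, rfl⟩ := hw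
    rw [chartLift_D, KaehlerDifferential.map_D, secondMap_d hc₂]
    exact (chartLift_D _ _ _ _).symm
  | zero => simp only [map_zero]
  | add a b _ _ ha hb => simp only [map_add, ha, hb]
  | smul r a _ ha =>
    rw [LinearMap.map_smul, Scheme.Modules.Hom.app_smul, ha, LinearMap.map_smul, LinearMap.map_smul]

end Chart

/-- Charts of `f` and `g` around a point. -/
lemma exists_charts (f : X ⟶ Y) (g : Y ⟶ Z) (x : X) : ∃ (P : X.Opens) (c₁ : Chart g),
    IsAffineOpen P ∧ x ∈ P ∧ P ≤ f ⁻¹ᵁ c₁.U := by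
  obtain ⟨c₁, hc, -⟩ := exists_chart g (x := f x) (W := ⊤) trivial
  obtain ⟨_, ⟨P, hP, rfl⟩, hxP, hsub⟩ := X.isBasis_affineOpens.exists_subset_of_mem_open
    (hc : x ∈ ((f ⁻¹ᵁ c₁.U : X.Opens) : Set X)) (f ⁻¹ᵁ c₁.U).isOpen
  exact ⟨P, c₁, hP, hxP, hsub⟩

theorem diffSeq_exact (hY : OmegaSh.IsUniversal dY) (hX : OmegaSh.IsUniversal dX)
    (hXY : OmegaSh.IsUniversal dXY) (hc₁ : OmegaSh.IsDiffCompat f dY dX c₁)
    (hc₂ : OmegaSh.IsDiffCompat (𝟙 X) dX dXY c₂) :
    Epi c₂ ∧ imageSubobject c₁ = kernelSubobject (secondMap c₂) := by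
  have := isQCoh_of_isUniversal hY
  have := isQCoh_of_isUniversal hX
  have := isQCoh_of_isUniversal hXY
  have := Groth.QCohMod.isQCoh_pullback_obj f ΩY
  have he : Epi (secondMap c₂) := by
    refine epi_of_affine_cover _ fun x => ?_
    obtain ⟨P, c, hP, hxP, hle⟩ := exists_charts f g x
    refine ⟨P, hP, hxP, fun y => ?_⟩
    let _ := chartAlg g c.e
    let _ := chartAlg f hle
    let _ := chartAlg (f ≫ g) (hle.trans (f.preimage_mono c.e))
    have := tower_chart hle c.e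
    let cf : Chart f := ⟨P, c.U, hP, c.hU, hle⟩
    obtain ⟨w, rfl⟩ := (chartLift_bijective_of_isUniversal hXY cf).2 y
    obtain ⟨v, rfl⟩ := KaehlerDifferential.map_surjective Γ(Z, c.V) Γ(Y, c.U) Γ(X, P) w
    exact ⟨_, secondMap_chartLift hle c.e hc₂ v⟩
  have he' : Epi ((Scheme.Modules.pullbackId X).inv.app ΩX ≫ c₂) := he
  refine ⟨epi_of_epi ((Scheme.Modules.pullbackId X).inv.app ΩX) c₂, ?_⟩
  have w : c₁ ≫ secondMap c₂ = 0 := by
    apply ((Scheme.Modules.pullbackPushforwardAdjunction f).homEquiv _ _).injective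
    refine hom_ext_of_isUniversal hY fun U s => ?_
    rw [Adjunction.homEquiv_unit, Adjunction.homEquiv_unit, Functor.map_zero, comp_zero]
    change (secondMap c₂).app _ (c₁.app _ (OmegaSh.pullSect f ΩY U (dY.app U s))) = 0
    rw [hc₁ U s, secondMap_d hc₂]
    exact der_app_of_eq dXY rfl U s
  refine (ShortComplex.exact_iff_image_eq_kernel (ShortComplex.mk c₁ (secondMap c₂) w)).mp ?_
  refine exact_of_affine_cover _ fun x => ?_
  obtain ⟨P, c, hP, hxP, hle⟩ := exists_charts f g x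
  refine ⟨P, hP, hxP, fun m hm => ?_⟩
  change (secondMap c₂).app P m = 0 at hm
  let _ := chartAlg g c.e
  let _ := chartAlg f hle
  let _ := chartAlg (f ≫ g) (hle.trans (f.preimage_mono c.e))
  let _ := sectionsAlg f hle
  have := tower_chart hle c.e
  let cf : Chart f := ⟨P, c.U, hP, c.hU, hle⟩
  let cg : Chart (f ≫ g) := ⟨P, c.V, hP, c.hV, hle.trans (f.preimage_mono c.e)⟩
  obtain ⟨w', rfl⟩ := (chartLift_bijective_of_isUniversal hX cg).2 m
  rw [secondMap_chartLift hle c.e hc₂] at hm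
  have h1 := (map_eq_zero_iff _ (chartLift_bijective_of_isUniversal hXY cf).1).mp hm
  obtain ⟨z, rfl⟩ := (KaehlerDifferential.exact_mapBaseChange_map Γ(Z, c.V) Γ(Y, c.U) Γ(X, P) w').mp h1
  refine ⟨pullChartEquiv hY f c hP hle z, ?_⟩
  exact app_pullChartEquiv hY f c hP hle hc₁ (hle.trans (f.preimage_mono c.e))
    (KaehlerDifferential.mapBaseChange Γ(Z, c.V) Γ(Y, c.U) Γ(X, P)) (fun b s => by
      rw [KaehlerDifferential.mapBaseChange_tmul, KaehlerDifferential.map_D]; rfl) z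

end Groth.PrinPartsAux
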