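import Groth.Agent.SchemeMorphisms.PrinParts.Chart
import Groth.Agent.QCohMod.Pullback

/-!
# The image of `d^n` generates the principal parts
-/

universe u

open CategoryTheory Limits AlgebraicGeometry Opposite TopologicalSpace TensorProduct
open Groth.OmegaSheaf Groth.QCohMod

namespace Groth.PrinPartsAux

variable {X S : Scheme.{u}} (f : X ⟶ S) (n : ℕ)

lemma exists_chart (f : X ⟶ S) {U₀ : X.Opens} (x : X) (hx : x ∈ U₀) :
    ∃ (U : X.Opens) (V : S.Opens) (_ : U ≤ f ⁻¹ᵁ V),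
      IsAffineOpen V ∧ IsAffineOpen U ∧ x ∈ U ∧ U ≤ U₀ := by
  obtain ⟨_, ⟨V, hV, rfl⟩, hxV, -⟩ :=
    S.isBasis_affineOpens.exists_subset_of_mem_open (Set.mem_univ (f x)) isOpen_univ
  obtain ⟨_, ⟨U, hU, rfl⟩, hxU, hsub⟩ := X.isBasis_affineOpens.exists_subset_of_mem_open
    (⟨hx, hxV⟩ : x ∈ ((U₀ ⊓ f ⁻¹ᵁ V : X.Opens) : Set X)) (U₀ ⊓ f ⁻¹ᵁ V).isOpen
  exact ⟨U, V, fun z hz => (hsub hz).2, hV, hU, hxU, fun z hz => (hsub hz).1⟩

lemma pr1_toNbhd (x : X) : PrinPart.pr1 f n (PrinPart.toNbhd f n x) = x := by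
  rw [← Scheme.Hom.comp_apply, PrinPart.toNbhd_pr1]; rfl

lemma pr2_toNbhd (x : X) : PrinPart.pr2 f n (PrinPart.toNbhd f n x) = x := by
  rw [← Scheme.Hom.comp_apply, PrinPart.toNbhd_pr2]; rfl

lemma toNbhd_pr1 (z : PrinPart.nbhd f n) : PrinPart.toNbhd f n (PrinPart.pr1 f n z) = z := by
  obtain ⟨y, rfl⟩ := PrinPart.toInfNbhd_surjective (PrinPart.diagCl f) n z
  rw [pr1_toNbhd]

lemma nbW_toNbhd_preimage (O : (PrinPart.nbhd f n).Opens) :
    nbW f n (PrinPart.toNbhd f n ⁻¹ᵁ O) = O := by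
  ext z
  change PrinPart.toNbhd f n (PrinPart.pr1 f n z) ∈ O ↔ z ∈ O
  rw [toNbhd_pr1]

lemma toNbhd_mem_nbW {U : X.Opens} {x : X} (hx : x ∈ U) : PrinPart.toNbhd f n x ∈ nbW f n U := by
  change PrinPart.pr1 f n (PrinPart.toNbhd f n x) ∈ U
  rwa [pr1_toNbhd]

variable (F : X.Modules)

/-- The pullback along the second projection. -/
noncomputable abbrev pF : (PrinPart.nbhd f n).Modules :=
  (Scheme.Modules.pullback (PrinPart.pr2 f n)).obj F

/-- A section of `P^n(F)` as a section of the pullback along `p_2`. -/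
noncomputable def toPF {U : X.Opens} (s : Γ(PrinPart.PMod f n F, U)) : Γ(pF f n F, nbW f n U) := s

/-- Inverse of `toPF`. -/
noncomputable def ofPF {U : X.Opens} (s : Γ(pF f n F, nbW f n U)) : Γ(PrinPart.PMod f n F, U) := s

lemma ofPF_toPF {U : X.Opens} (s : Γ(PrinPart.PMod f n F, U)) : ofPF f n F (toPF f n F s) = s := rfl

lemma PMod_smul (U : X.Opens) (r : Γ(X, U)) (s : Γ(PrinPart.PMod f n F, U)) :
    toPF f n F (r • s) = (PrinPart.pr1 f n).app U r • toPF f n F s :=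
  rfl

lemma dP_smul (U : X.Opens) (r : Γ(X, U)) (t : Γ(F, U)) :
    toPF f n F (PrinPart.dP f n F U (r • t)) =
      (PrinPart.pr2 f n).appLE U (nbW f n U) (PrinPart.preimage_pr1 f n U).le r •
        toPF f n F (PrinPart.dP f n F U t) := by
  unfold toPF
  rw [PrinPart.dP_apply, PrinPart.dP_apply, OmegaSh.pullSect_smul]
  exact res_smul (pF f n F) (PrinPart.preimage_pr1 f n U).le _ _

lemma smul_dP (U : X.Opens) (b c : Γ(X, U)) (t : Γ(F, U)) :
    b • PrinPart.dP f n F U (c • t) = ofPF f n F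
      (((PrinPart.pr1 f n).app U b *
          (PrinPart.pr2 f n).appLE U (nbW f n U) (PrinPart.preimage_pr1 f n U).le c) •
        toPF f n F (PrinPart.dP f n F U t)) := by
  rw [mul_smul, ← dP_smul, ← PMod_smul, ofPF_toPF]

lemma res_dP {U V : X.Opens} (h : V ≤ U) (t : Γ(F, U)) :
    res (PrinPart.PMod f n F) h (PrinPart.dP f n F U t) = PrinPart.dP f n F V (res F h t) :=
  (PrinPart.dP_map f n F h t).symm

/-- The sections generated by the image of `d^n`. -/
noncomputable abbrev dSpan (U : X.Opens) : Submodule Γ(X, U) Γ(PrinPart.PMod f n F, U) :=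
  Submodule.span Γ(X, U) (Set.range (PrinPart.dP f n F U))

lemma res_mem_dSpan {U V : X.Opens} (h : V ≤ U) {s : Γ(PrinPart.PMod f n F, U)}
    (hs : s ∈ dSpan f n F U) : res (PrinPart.PMod f n F) h s ∈ dSpan f n F V := by
  induction hs using Submodule.span_induction with
  | mem z hz =>
    obtain ⟨t, rfl⟩ := hz
    rw [res_dP]
    exact Submodule.subset_span ⟨_, rfl⟩
  | zero => rw [map_zero]; exact zero_mem _
  | add a b _ _ ha hb => rw [map_add]; exact add_mem ha hb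
  | smul r a _ ha => rw [res_smul]; exact Submodule.smul_mem _ _ ha

lemma π_smul_dP_mem {U : X.Opens} {V : S.Opens} (e : U ≤ f ⁻¹ᵁ V)
    (hV : IsAffineOpen V) (hU : IsAffineOpen U) (t : Γ(F, U)) :
    letI := chartAlg f e
    ∀ z : Γ(X, U) ⊗[Γ(S, V)] Γ(X, U),
      ofPF f n F (π f n e hV hU z • toPF f n F (PrinPart.dP f n F U t)) ∈ dSpan f n F U := by
  letI := chartAlg f e
  intro z
  induction z using TensorProduct.induction_on with
  | zero => rw [map_zero, zero_smul]; exact zero_mem (dSpan f n F U)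
  | tmul b c =>
    rw [π_tmul, ← smul_dP]
    exact Submodule.smul_mem _ _ (Submodule.subset_span ⟨_, rfl⟩)
  | add a b ha hb => rw [map_add, add_smul]; exact add_mem ha hb

lemma germ_mem_dSpan (x : X) {U₀ : X.Opens} (hx₀ : x ∈ U₀)
    (τ : (pF f n F).presheaf.stalk (PrinPart.toNbhd f n x)) :
    ∃ (U : X.Opens) (hx : x ∈ U), U ≤ U₀ ∧ ∃ m ∈ dSpan f n F U,
      germ (pF f n F) (U := nbW f n U) (PrinPart.toNbhd f n x) (toNbhd_mem_nbW f n hx) m = τ := by
  obtain ⟨z, rfl⟩ := (pullStalkHom_bijective (PrinPart.pr2 f n) F (PrinPart.toNbhd f n x)).2 τ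
  induction z using TensorProduct.induction_on with
  | zero => exact ⟨U₀, hx₀, le_rfl, 0, zero_mem _, by rw [map_zero]; exact map_zero _⟩
  | tmul r τ =>
    obtain ⟨U₁, hx₁, t, rfl⟩ := exists_germ F _ τ
    obtain ⟨O, hO, r, rfl⟩ := TopCat.Presheaf.exists_germ_eq (PrinPart.nbhd f n).presheaf r
    have hx₁' : x ∈ U₁ := by rwa [pr2_toNbhd] at hx₁
    obtain ⟨U, V, e, hV, hU, hxU, hle⟩ := exists_chart f x (U₀ := U₀ ⊓ U₁ ⊓ PrinPart.toNbhd f n ⁻¹ᵁ O)
      ⟨⟨hx₀, hx₁'⟩, hO⟩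
    have hy := toNbhd_mem_nbW f n hxU
    have hOle : nbW f n U ≤ O := fun z hz => by
      have := (hle hz).2
      change PrinPart.toNbhd f n (PrinPart.pr1 f n z) ∈ O at this
      rwa [toNbhd_pr1] at this
    letI := chartAlg f e
    obtain ⟨w, hw⟩ := π_surjective f n e hV hU (resFun (PrinPart.nbhd f n) hOle r)
    refine ⟨U, hxU, fun z hz => (hle hz).1.1, _, π_smul_dP_mem f n F e hV hU (res F (fun z hz => (hle hz).1.2) t) w, ?_⟩
    unfold ofPF toPF
    rw [germ_smul, hw, pullStalkHom_tmul,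
      TopCat.Presheaf.germ_res_apply (PrinPart.nbhd f n).presheaf (homOfLE hOle)]
    congr 1
    have hU₁ : U ≤ U₁ := fun z hz => (hle hz).1.2
    have hy₂ : PrinPart.pr2 f n (PrinPart.toNbhd f n x) ∈ U := by rwa [pr2_toNbhd]
    rw [← germ_res F hU₁ _ hy₂ t, pullGerm_germ, PrinPart.dP_apply]
    exact germ_res (pF f n F) (PrinPart.preimage_pr1 f n U).le _ hy _
  | add a b ha hb =>
    obtain ⟨Ua, hxa, hla, ma, hma, ha⟩ := ha
    obtain ⟨Ub, hxb, -, mb, hmb, hb⟩ := hb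
    refine ⟨Ua ⊓ Ub, ⟨hxa, hxb⟩, inf_le_left.trans hla,
      res (PrinPart.PMod f n F) inf_le_left ma + res (PrinPart.PMod f n F) inf_le_right mb,
      add_mem (res_mem_dSpan f n F _ hma) (res_mem_dSpan f n F _ hmb), ?_⟩
    rw [map_add, ← ha, ← hb]
    refine (map_add _ _ _).trans (congrArg₂ (· + ·) ?_ ?_)
    · exact germ_res (pF f n F) ((PrinPart.pr1 f n).preimage_mono inf_le_left) _ _ ma
    · exact germ_res (pF f n F) ((PrinPart.pr1 f n).preimage_mono inf_le_right) _ _ mb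

/-- Locally every section of `P^n(F)` is a combination of values of `d^n`. -/
theorem exists_res_mem_dSpan {U₀ : X.Opens} (s : Γ(PrinPart.PMod f n F, U₀)) (x : X) (hx₀ : x ∈ U₀) :
    ∃ (U : X.Opens) (h : U ≤ U₀), x ∈ U ∧ res (PrinPart.PMod f n F) h s ∈ dSpan f n F U := by
  obtain ⟨U, hx, hU, m, hm, hgerm⟩ := germ_mem_dSpan f n F x hx₀
    (germ (pF f n F) (U := nbW f n U₀) _ (toNbhd_mem_nbW f n hx₀) s)
  obtain ⟨O, hy, i₁, i₂, heq⟩ := TopCat.Presheaf.germ_eq (pF f n F).presheaf _ _ _ m s hgerm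
  let U' := PrinPart.toNbhd f n ⁻¹ᵁ O ⊓ U
  have hle : nbW f n U' ≤ O := fun z hz => by
    have := hz.1
    change PrinPart.toNbhd f n (PrinPart.pr1 f n z) ∈ O at this
    rwa [toNbhd_pr1] at this
  refine ⟨U', inf_le_right.trans hU, ⟨hy, hx⟩, ?_⟩
  have : res (PrinPart.PMod f n F) (inf_le_right.trans hU : U' ≤ U₀) s =
      res (PrinPart.PMod f n F) (inf_le_right : U' ≤ U) m := by
    have h2 := congrArg (res (pF f n F) hle) heq
    exact ((res_res (pF f n F) (leOfHom i₂) hle s).symm.trans (h2.symm.trans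
      (res_res (pF f n F) (leOfHom i₁) hle m)))
  rw [this]
  exact res_mem_dSpan f n F _ hm

/-- Two linear maps out of `P^n(F)` agreeing locally on the values of `d^n` are equal. -/
theorem hom_ext {G : X.Modules} (a b : PrinPart.PMod f n F ⟶ G)
    (h : ∀ (U : X.Opens) (t : Γ(F, U)) (x : X), x ∈ U → ∃ (U' : X.Opens) (h' : U' ≤ U), x ∈ U' ∧
      a.app U' (PrinPart.dP f n F U' (res F h' t)) = b.app U' (PrinPart.dP f n F U' (res F h' t))) :
    a = b := by
  ext U₀ s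
  refine TopCat.Presheaf.section_ext ⟨G.presheaf, G.isSheaf⟩ U₀ _ _ fun x hx => ?_
  obtain ⟨U, hU, hxU, hs⟩ := exists_res_mem_dSpan f n F s x hx
  suffices H : ∀ m ∈ dSpan f n F U, germ G x hxU (a.app U m) = germ G x hxU (b.app U m) by
    have h1 := H _ hs
    rw [← res_app a hU s, ← res_app b hU s, germ_res, germ_res] at h1
    exact h1
  intro m hm
  induction hm using Submodule.span_induction with
  | mem z hz =>
    obtain ⟨t, rfl⟩ := hz
    obtain ⟨U', hU', hxU', he⟩ := h U t x hxU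
    rw [← germ_res G hU' x hxU', ← germ_res G hU' x hxU' (b.app U _), res_app, res_app, res_dP, he]
  | zero => simp only [map_zero]
  | add p q _ _ hp hq => rw [map_add, map_add, map_add, map_add, hp, hq]
  | smul r p _ hp => rw [Scheme.Modules.Hom.app_smul, Scheme.Modules.Hom.app_smul, germ_smul, germ_smul, hp]

/-- Two linear maps out of `P^n(F)` agreeing on the values of `d^n` are equal. -/
theorem hom_ext' {G : X.Modules} (a b : PrinPart.PMod f n F ⟶ G)
    (h : ∀ (U : X.Opens) (t : Γ(F, U)), a.app U (PrinPart.dP f n F U t) = b.app U (PrinPart.dP f n F U t)) :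
    a = b :=
  hom_ext f n F a b fun U t _ hx => ⟨U, le_rfl, hx, h U _⟩

end Groth.PrinPartsAux
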