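import Groth.Agent.SchemeMorphisms.PrinParts.Coherent
import Groth.Agent.SchemeMorphisms.PrinParts.Gen
import Groth.Agent.LocFree.FP
import Groth.Agent.PropsBasic.FPSections
import Mathlib.AlgebraicGeometry.Morphisms.FinitePresentation
import Mathlib.RingTheory.Finiteness.ModuleFinitePresentation

/-!
# Finite presentation of principal parts
-/

universe u

open CategoryTheory Limits AlgebraicGeometry TensorProduct
open Groth.OmegaSheaf

namespace Groth.PrinPartsAux

variable {X S : Scheme.{u}} (f : X ⟶ S) [LocallyOfFinitePresentation f] (n : ℕ)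

theorem finitePresentation_pr1 {U : X.Opens} {V : S.Opens} (e : U ≤ f ⁻¹ᵁ V) (hV : IsAffineOpen V)
    (hU : IsAffineOpen U) :
    letI := ((PrinPart.pr1 f n).app U).hom.toAlgebra
    Module.FinitePresentation Γ(X, U) Γ(PrinPart.nbhd f n, nbW f n U) := by
  let _ := ((PrinPart.pr1 f n).app U).hom.toAlgebra
  let _ := chartAlg f e
  have := isFinite_pr1 f n
  have : Module.Finite Γ(X, U) Γ(PrinPart.nbhd f n, nbW f n U) := (PrinPart.pr1 f n).finite_app U hU
  have : Algebra.FinitePresentation Γ(S, V) Γ(X, U) := f.finitePresentation_appLE hV hU e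
  let g : Γ(X, U) ⊗[Γ(S, V)] Γ(X, U) →ₐ[Γ(X, U)] Γ(PrinPart.nbhd f n, nbW f n U) :=
    { π f n e hV hU with
      commutes' := fun b => by
        change π f n e hV hU (b ⊗ₜ 1) = (PrinPart.pr1 f n).app U b
        rw [π_tmul, map_one, mul_one] }
  have hker : (RingHom.ker g.toRingHom).FG := by
    rw [show RingHom.ker g.toRingHom = KaehlerDifferential.ideal Γ(S, V) Γ(X, U) ^ (n + 1) from
      Ideal.ext fun z => π_eq_zero_iff f n e hV hU z]
    exact (KaehlerDifferential.ideal_fg _ _).pow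
  have : Algebra.FinitePresentation Γ(X, U) Γ(PrinPart.nbhd f n, nbW f n U) :=
    Algebra.FinitePresentation.of_surjective (f := g) (π_surjective f n e hV hU) hker
  exact Module.FinitePresentation.of_finite_of_finitePresentation _ _

theorem isFP_PMod (F : X.Modules) (hF : CohB1.IsFP F) : CohB1.IsFP (PrinPart.PMod f n F) := by
  have := isFinite_pr1 f n
  have : F.IsQuasicoherent := inferInstance
  let p := PrinPart.pr1 f n
  let M := (Scheme.Modules.pullback (PrinPart.pr2 f n)).obj F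
  have : M.IsQuasicoherent := Groth.QCohMod.isQCoh_pullback_obj _ F
  have hM : CohB1.IsFP M := Groth.QCohMod.isFP_pullback _ F hF
  have : (PrinPart.PMod f n F).IsQuasicoherent := Groth.QCohMod.isQCoh_pushforward (M := M) p
  refine Groth.LocFree.isFP_of_affine_cover _ fun x => ?_
  obtain ⟨U, V, e, hV, hU, hxU, -⟩ := exists_chart f x (U₀ := ⊤) trivial
  refine ⟨U, hU, hxU, ?_⟩
  have hU' : IsAffineOpen (p ⁻¹ᵁ U) := hU.preimage p
  have := Groth.PropsBasic.FPSections.finitePresentation_sections M hM hU'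
  let : Algebra Γ(X, U) Γ(PrinPart.nbhd f n, p ⁻¹ᵁ U) := (p.app U).hom.toAlgebra
  have : Module.FinitePresentation Γ(X, U) Γ(PrinPart.nbhd f n, p ⁻¹ᵁ U) :=
    finitePresentation_pr1 f n e hV hU
  let : Module Γ(X, U) Γ(M, p ⁻¹ᵁ U) := Module.compHom _ (p.app U).hom
  have : IsScalarTower Γ(X, U) Γ(PrinPart.nbhd f n, p ⁻¹ᵁ U) Γ(M, p ⁻¹ᵁ U) :=
    IsScalarTower.of_compHom _ _ _
  have h : Module.FinitePresentation Γ(X, U) Γ(M, p ⁻¹ᵁ U) :=
    Module.FinitePresentation.trans (R := Γ(X, U)) (M := Γ(M, p ⁻¹ᵁ U)) Γ(PrinPart.nbhd f n, p ⁻¹ᵁ U)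
  exact h

end Groth.PrinPartsAux
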