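import Groth.Agent.OmegaSheaf.Affine
import Groth.Agent.OmegaSheaf.AffineHom
import Groth.Agent.OmegaSheaf.Receptacle

/-!
# Derivations of a quasi-coherent module on an affine scheme
-/

universe u

open CategoryTheory Limits AlgebraicGeometry Opposite TopologicalSpace
open Groth.OmegaSheaf

namespace Groth.PrinPartsAux

variable {A B : Type u} [CommRing A] [CommRing B] [Algebra A B]
  {L : Type u} [AddCommGroup L] [Module B L] [Module A L] [IsScalarTower A B L]

/-- Derivations of `O` into `L~` on `Spec B` over `Spec A` are derivations of `B` into `L`. -/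
theorem derivations_tilde :
    (∀ D : OmegaSh.Der (Spec.map (CommRingCat.ofHom (algebraMap A B))) (tilde (ModuleCat.of (CommRingCat.of B) L)),
      ∃ δ : Derivation A B L, ∀ t : B, D.app ⊤ ((Scheme.ΓSpecIso (CommRingCat.of B)).inv t) =
        (tilde.isoTop (ModuleCat.of (CommRingCat.of B) L)).hom (δ t)) ∧
    ∀ δ : Derivation A B L,
      ∃! D : OmegaSh.Der (Spec.map (CommRingCat.ofHom (algebraMap A B))) (tilde (ModuleCat.of (CommRingCat.of B) L)),
        ∀ t : B, D.app ⊤ ((Scheme.ΓSpecIso (CommRingCat.of B)).inv t) =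
          (tilde.isoTop (ModuleCat.of (CommRingCat.of B) L)).hom (δ t) := by
  let X := Spec (CommRingCat.of B)
  let S := Spec (CommRingCat.of A)
  let f : X ⟶ S := Spec.map (CommRingCat.ofHom (algebraMap A B))
  let T : X.Modules := tilde (ModuleCat.of (CommRingCat.of B) L)
  let e : (⊤ : X.Opens) ≤ f ⁻¹ᵁ ⊤ := le_rfl
  let σ : B ≃+* Γ(X, ⊤) := (Scheme.ΓSpecIso (CommRingCat.of B)).symm.commRingCatIsoToRingEquiv
  let σA : A ≃+* Γ(S, ⊤) := (Scheme.ΓSpecIso (CommRingCat.of A)).symm.commRingCatIsoToRingEquiv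
  have hσ : ∀ a, σ (algebraMap A B a) = f.appLE ⊤ ⊤ e (σA a) := fun a => by
    have h := congr($(Scheme.ΓSpecIso_inv_naturality (CommRingCat.ofHom (algebraMap A B))) a)
    change _ = f.appLE ⊤ (f ⁻¹ᵁ ⊤) le_rfl _
    rw [← Scheme.Hom.app_eq_appLE]
    exact h
  let tI := (tilde.isoTop (ModuleCat.of (CommRingCat.of B) L)).toLinearEquiv
  let tA : L ≃+ Γ(T, ⊤) := tI.toAddEquiv
  have hsmul : ∀ (b : B) (l : L), tA (b • l) = σ b • tA l := fun b l => by
    refine (tI.map_smul b l).trans ?_
    change ((Spec (CommRingCat.of B)).presheaf.map (⊤ : (Spec (CommRingCat.of B)).Opens).leTop.op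
      ((Scheme.ΓSpecIso (CommRingCat.of B)).inv b)) • tA l = _
    rw [Subsingleton.elim (⊤ : (Spec (CommRingCat.of B)).Opens).leTop (𝟙 _), op_id,
      CategoryTheory.Functor.map_id]
    rfl
  constructor
  · intro D
    let δ0 : B →+ L :=
      tA.symm.toAddMonoidHom.comp ((D.app ⊤).comp σ.toAddEquiv.toAddMonoidHom)
    have hδ0 : ∀ t, tA (δ0 t) = D.app ⊤ (σ t) := fun t => tA.apply_symm_apply _
    have hml : ∀ a b, δ0 (a * b) = a • δ0 b + b • δ0 a := fun a b => tA.injective <| by
      rw [hδ0, map_mul, der_mul, map_add, hsmul, hsmul, hδ0, hδ0]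
    have hz : ∀ a : A, δ0 (algebraMap A B a) = 0 := fun a => tA.injective <| by
      rw [hδ0, hσ, der_appLE, map_zero]
    let δ : Derivation A B L := Derivation.mk'
      { toFun := δ0
        map_add' := map_add δ0
        map_smul' := fun a b => by
          rw [RingHom.id_apply, Algebra.smul_def, hml, hz, smul_zero, add_zero, algebraMap_smul] }
      hml
    exact ⟨δ, fun t => (hδ0 t).symm⟩
  · intro δ
    let _ := chartAlg f e
    let _ : Module Γ(S, ⊤) Γ(T, ⊤) := Module.compHom _ (f.appLE ⊤ ⊤ e).hom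
    have : IsScalarTower Γ(S, ⊤) Γ(X, ⊤) Γ(T, ⊤) :=
      IsScalarTower.of_algebraMap_smul fun _ _ => rfl
    let d0 : Γ(X, ⊤) →+ Γ(T, ⊤) :=
      tA.toAddMonoidHom.comp (δ.toLinearMap.toAddMonoidHom.comp σ.symm.toAddEquiv.toAddMonoidHom)
    have hd0 : ∀ b, d0 (σ b) = tA (δ b) := fun b =>
      congrArg (fun z => tA (δ z)) (σ.symm_apply_apply b)
    have hml : ∀ a b, d0 (a * b) = a • d0 b + b • d0 a := fun a b => by
      obtain ⟨a, rfl⟩ := σ.surjective a
      obtain ⟨b, rfl⟩ := σ.surjective b
      rw [← map_mul, hd0, hd0, hd0, Derivation.leibniz, map_add, hsmul, hsmul]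
    let d : Derivation Γ(S, ⊤) Γ(X, ⊤) Γ(T, ⊤) := Derivation.mk'
      { toFun := d0
        map_add' := map_add d0
        map_smul' := fun r x => by
          obtain ⟨a, rfl⟩ := σA.surjective r
          change d0 (f.appLE ⊤ ⊤ e (σA a) * x) = f.appLE ⊤ ⊤ e (σA a) • d0 x
          rw [hml, ← hσ, hd0, Derivation.map_algebraMap, map_zero, smul_zero, add_zero] }
      hml
    let E := chartEquiv f e (isAffineOpen_top _) (isAffineOpen_top _)
    let l := d.liftKaehlerDifferential.comp E.symm.toLinearMap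
    obtain ⟨α, hα⟩ := exists_hom_of_linear (M := Omega.sheaf f) (F := T) l.toAddMonoidHom
      (fun r m => map_smul l r m)
    have hαd : ∀ s, α.app ⊤ ((OmegaSh.dOmega f).app ⊤ s) = d0 s := fun s => by
      rw [hα, ← chartEquiv_D f e (isAffineOpen_top _) (isAffineOpen_top _)]
      change d.liftKaehlerDifferential (E.symm (E _)) = _
      rw [LinearEquiv.symm_apply_apply, Derivation.liftKaehlerDifferential_comp_D]
      rfl
    refine ⟨(OmegaSh.dOmega f).postcomp α.val, fun t => ?_, fun D' hD' => ?_⟩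
    · rw [postcomp_app]
      exact (hαd (σ t)).trans (hd0 t)
    · obtain ⟨β, hβ⟩ := exists_hom_of_isUniversal (isUniversal_dOmega f) D'
      have hαβ : β = α := by
        refine hom_ext_of_top fun m => ?_
        obtain ⟨w, rfl⟩ := E.surjective m
        have hw : w ∈ Submodule.span Γ(X, ⊤) (Set.range (KaehlerDifferential.D Γ(S, ⊤) Γ(X, ⊤))) := by
          rw [KaehlerDifferential.span_range_derivation]; trivial
        induction hw using Submodule.span_induction with
        | mem w hw =>
          obtain ⟨s, rfl⟩ := hw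
          obtain ⟨t, rfl⟩ := σ.surjective s
          rw [chartEquiv_D, hαd, hβ, hd0]
          exact hD' t
        | zero => simp only [map_zero]
        | add a b _ _ ha hb => simp only [map_add, ha, hb]
        | smul r a _ ha => rw [map_smul, Scheme.Modules.Hom.app_smul, Scheme.Modules.Hom.app_smul, ha]
      exact der_ext fun U s => by rw [postcomp_app, ← hαβ, hβ]

end Groth.PrinPartsAux
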