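import Groth.Prelude.Def_OmegaPn
import Groth.Agent.Divisors.IdealComap

/-!
# Infinitesimal neighbourhoods and base change
-/

universe u

open CategoryTheory Limits AlgebraicGeometry

namespace Groth.PrinPartsAux

theorem isPullback_of_comap {X X' : Scheme.{u}} (K : X.IdealSheafData) (v : X' ⟶ X)
    (J : X'.IdealSheafData) (hJ : J = K.comap v) (w : J.subscheme ⟶ K.subscheme)
    (hw : w ≫ K.subschemeι = J.subschemeι ≫ v) :
    IsPullback w J.subschemeι K.subschemeι v := by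
  subst hJ
  refine (IsPullback.of_iso_pullback ⟨hw.symm⟩ (K.comapIso v) (Scheme.IdealSheafData.comapIso_hom_fst _ _) ?_).flip
  rw [← cancel_mono K.subschemeι, Category.assoc, ← pullback.condition,
    Scheme.IdealSheafData.comapIso_hom_fst_assoc, hw]

theorem ker_of_isPullback {Y X Y' X' : Scheme.{u}} {f : Y ⟶ X} [IsClosedImmersion f]
    {v : X' ⟶ X} {u : Y' ⟶ Y} {f' : Y' ⟶ X'} (hsq : IsPullback u f' f v) :
    f'.ker = f.ker.comap v := by
  rw [← hsq.flip.isoPullback_hom_fst, Scheme.Hom.ker_comp_of_isIso,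
    Scheme.IdealSheafData.ker_fst_of_isClosedImmersion]

theorem isPullback_infNbhd {Y X Y' X' : Scheme.{u}} (f : Y ⟶ X) [IsClosedImmersion f]
    (v : X' ⟶ X) (u : Y' ⟶ Y) (f' : Y' ⟶ X') (hsq : IsPullback u f' f v) (n : ℕ)
    (w : PrinPart.infNbhd f' n ⟶ PrinPart.infNbhd f n)
    (hw : w ≫ PrinPart.infNbhdι f n = PrinPart.infNbhdι f' n ≫ v) :
    IsPullback w (PrinPart.infNbhdι f' n) (PrinPart.infNbhdι f n) v :=
  isPullback_of_comap (f.ker ^ (n + 1)) v (f'.ker ^ (n + 1))
    (by rw [Groth.Divisors.comap_pow, ker_of_isPullback hsq]) w hw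

end Groth.PrinPartsAux
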