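import Groth.Agent.SchemeMorphisms.PrinParts.GrChart
import Mathlib.AlgebraicGeometry.Morphisms.Flat

/-!
# Graded pieces and cartesian squares
-/

universe u

open CategoryTheory Limits AlgebraicGeometry Opposite TopologicalSpace TensorProduct
open Groth.OmegaSheaf

namespace Groth.PrinPartsAux

variable {Y X Y' X' : Scheme.{u}} {f : Y ⟶ X} [IsClosedImmersion f]
  {v : X' ⟶ X} {u : Y' ⟶ Y} {f' : Y' ⟶ X'}

lemma isClosedImmersion_of_sq (hsq : IsPullback u f' f v) : IsClosedImmersion f' :=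
  MorphismProperty.of_isPullback hsq inferInstance

lemma isConormalChart_of_affine {Z T : Scheme.{u}} (i : Z ⟶ T) [IsClosedImmersion i] {W : T.Opens}
    (hW : IsAffineOpen W) : IsConormalChart i W :=
  ⟨hW, hW.preimage i, i.app_surjective W hW⟩

lemma ker_le_map_of_sq (hsq : IsPullback u f' f v) {W : X.Opens} {W' : X'.Opens}
    (hW : IsAffineOpen W) (hW' : IsAffineOpen W') (e : W' ≤ v ⁻¹ᵁ W) :
    RingHom.ker (f'.app W').hom ≤ (RingHom.ker (f.app W).hom).map (v.appLE W W' e).hom := by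
  have := isClosedImmersion_of_sq hsq
  rw [← ker_ideal_eq (i := f') hW', ← ker_ideal_eq (i := f) hW, ker_of_isPullback hsq,
    Groth.Divisors.ideal_comap_affine _ v ⟨W, hW⟩ ⟨W', hW'⟩ e]

lemma exists_gr_chart (z : Y') : ∃ (W : X.Opens) (W' : X'.Opens) (_ : W' ≤ v ⁻¹ᵁ W),
    IsAffineOpen W ∧ IsAffineOpen W' ∧ f' z ∈ W' := by
  obtain ⟨_, ⟨W, hW, rfl⟩, hxW, -⟩ :=
    X.isBasis_affineOpens.exists_subset_of_mem_open (Set.mem_univ (v (f' z))) isOpen_univ
  obtain ⟨_, ⟨W', hW', rfl⟩, hxW', hsub⟩ := X'.isBasis_affineOpens.exists_subset_of_mem_open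
    (hxW : f' z ∈ ((v ⁻¹ᵁ W : X'.Opens) : Set X')) (v ⁻¹ᵁ W).isOpen
  exact ⟨W, W', hsub, hW, hW', hxW'⟩

variable {n : ℕ} {φ : (Scheme.Modules.pullback u).obj (PrinPart.grMod f n) ⟶ PrinPart.grMod f' n}

theorem epi_grMap (hsq : IsPullback u f' f v) (hφ : PrinPart.IsGrMap f' f v u n φ) : Epi φ := by
  have := isClosedImmersion_of_sq hsq
  refine epi_of_affine_cover φ fun z => ?_
  obtain ⟨W, W', e, hW, hW', hz⟩ := exists_gr_chart (v := v) (f' := f') z
  exact ⟨f' ⁻¹ᵁ W', hW'.preimage f', hz,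
    (grMap_app_surjective_and_injective f' f v u hφ (isConormalChart_of_affine f hW)
      (isConormalChart_of_affine f' hW') e (ker_le_map_of_sq hsq hW hW' e)).1⟩

theorem isIso_grMap_of_flat [Flat v] (hsq : IsPullback u f' f v)
    (hφ : PrinPart.IsGrMap f' f v u n φ) : IsIso φ := by
  have := isClosedImmersion_of_sq hsq
  have := Groth.QCohMod.isQCoh_pullback_obj u (PrinPart.grMod f n)
  refine isIso_of_affine_cover φ fun z => ?_
  obtain ⟨W, W', e, hW, hW', hz⟩ := exists_gr_chart (v := v) (f' := f') z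
  obtain ⟨hs, hi⟩ := grMap_app_surjective_and_injective f' f v u hφ (isConormalChart_of_affine f hW)
    (isConormalChart_of_affine f' hW') e (ker_le_map_of_sq hsq hW hW' e)
  refine ⟨f' ⁻¹ᵁ W', hW'.preimage f', hz, hi ?_, hs⟩
  let _ := (v.appLE W W' e).hom.toAlgebra
  have : Module.Flat Γ(X, W) Γ(X', W') := Flat.flat_appLE v hW hW' e
  exact Module.Flat.lTensor_preserves_injective_linearMap _ (Submodule.subtype_injective _)

end Groth.PrinPartsAux
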