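import Groth.Agent.SchemeMorphisms.PrinParts.Gen
import Groth.Agent.QCohMod.QCQS
import Groth.Agent.QCohMod.PullbackQCoh

/-!
# `P^n(F)` is quasi-coherent
-/

universe u

open CategoryTheory Limits AlgebraicGeometry
open Groth.QCohMod

namespace Groth.PrinPartsAux

variable {X S : Scheme.{u}} (f : X ⟶ S) (n : ℕ)

lemma isAffineHom_pr1 : IsAffineHom (PrinPart.pr1 f n) := by
  let e : PrinPart.nbhd f n ≃ₜ X :=
    { toFun := PrinPart.pr1 f n, invFun := PrinPart.toNbhd f n,
      left_inv := toNbhd_pr1 f n, right_inv := pr1_toNbhd f n,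
      continuous_toFun := (PrinPart.pr1 f n).continuous,
      continuous_invFun := (PrinPart.toNbhd f n).continuous }
  exact isAffineHom_of_isInducing _ e.isInducing e.isClosedEmbedding.isClosed_range

theorem isQCoh_PMod (F : X.Modules) (hF : Coh.IsQCoh F) : Coh.IsQCoh (PrinPart.PMod f n F) := by
  have := isAffineHom_pr1 f n
  have : F.IsQuasicoherent := hF
  have := isQCoh_pullback_obj (PrinPart.pr2 f n) F
  exact isQCoh_pushforward _ (PrinPart.pr1 f n)

end Groth.PrinPartsAux
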