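import Groth.Agent.SchemeMorphisms.PrinParts.Affine
import Groth.Agent.SchemeMorphisms.PrinParts.QCoh
import Groth.Agent.OmegaSheaf.IsoLocal
import Groth.Agent.OmegaSheaf.Pull

/-!
# Base change of the sheaves of principal parts
-/

universe u

open CategoryTheory Limits AlgebraicGeometry Opposite TopologicalSpace TensorProduct
open Groth.OmegaSheaf
open Groth.QCohMod (res res_res res_smul res_app res_self sectionsAlg)

namespace Groth.PrinPartsAux

section Fn

variable {X S : Scheme.{u}} (f : X ⟶ S) (n : ℕ)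

lemma fnP_smul (U : X.Opens) (b : Γ(X, U)) (s : Γ(PrinPart.P f n, U)) :
    fnP f n U (b • s) = (PrinPart.pr1 f n).app U b * fnP f n U s := by
  change OmegaSh.fnSect _ _ ((Groth.PicAux.pullUnit (PrinPart.pr2 f n)).app (nbW f n U)
    ((PrinPart.pr1 f n).app U b • toPF f n _ s)) = _
  rw [Scheme.Modules.Hom.app_smul]
  rfl

lemma pr2_appLE_base' {U : X.Opens} {V : S.Opens} (a : Γ(S, V)) (e : U ≤ f ⁻¹ᵁ V) :
    (PrinPart.pr2 f n).appLE U (nbW f n U) (PrinPart.preimage_pr1 f n U).le (f.appLE V U e a) =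
      (PrinPart.pr1 f n).app U (f.appLE V U e a) := by
  rw [Scheme.Hom.app_eq_appLE]
  change (f.appLE V U e ≫ (PrinPart.pr2 f n).appLE U (nbW f n U) _) a =
    (f.appLE V U e ≫ (PrinPart.pr1 f n).appLE U (nbW f n U) _) a
  rw [Scheme.Hom.appLE_comp_appLE, Scheme.Hom.appLE_comp_appLE]
  simp only [PrinPart.pr1_comp]

variable {U : X.Opens} {V : S.Opens} (e : U ≤ f ⁻¹ᵁ V) (hV : IsAffineOpen V) (hU : IsAffineOpen U)

include e hV hU in
/-- Additive maps out of the sections of `P^n` on a chart are determined on the `b • d^n c`. -/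
lemma P_hom_ext {N : Type u} [AddCommMonoid N] (G H : Γ(PrinPart.P f n, U) →+ N)
    (h : ∀ b c : Γ(X, U), G (b • PrinPart.dn f n U c) = H (b • PrinPart.dn f n U c))
    (s : Γ(PrinPart.P f n, U)) : G s = H s := by
  let _ := chartAlg f e
  let E := AddEquiv.ofBijective (fnP f n U) (fnP_bijective f n U)
  obtain ⟨z, hz⟩ := π_surjective f n e hV hU (fnP f n U s)
  have hs : s = E.symm (π f n e hV hU z) := by rw [hz]; exact (E.symm_apply_apply s).symm
  rw [hs]
  clear hz hs
  induction z using TensorProduct.induction_on with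
  | zero => simp
  | tmul x y =>
    rw [π_tmul, ← fnP_smul_dn, show E.symm (fnP f n U (x • PrinPart.dn f n U y)) =
      x • PrinPart.dn f n U y from E.symm_apply_apply _]
    exact h x y
  | add a b ha hb => rw [map_add, map_add, map_add, map_add, ha, hb]

end Fn

section Chart

variable {X S X' S' : Scheme.{u}} {f : X ⟶ S} {g : S' ⟶ S} {u : X' ⟶ X} {f' : X' ⟶ S'} {n : ℕ}
  {φ : (Scheme.Modules.pullback u).obj (PrinPart.P f n) ⟶ PrinPart.P f' n}
  {U : X.Opens} {V : S.Opens} {P : X'.Opens} {V' : S'.Opens}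

lemma res_dn {U U' : X'.Opens} (h : U' ≤ U) (c : Γ(X', U)) :
    res (PrinPart.P f' n) h (PrinPart.dn f' n U c) =
      PrinPart.dn f' n U' (X'.presheaf.map (homOfLE h).op c) := by
  change res _ h (PrinPart.dP f' n _ U (OmegaSh.strSect X' U c)) = _
  rw [res_dP]
  rfl

lemma φ_pullSect_dn (hφ : PrinPart.IsPMap f f' u n φ) (eP : P ≤ u ⁻¹ᵁ U) (b c : Γ(X, U)) :
    φ.app P (res _ eP (OmegaSh.pullSect u (PrinPart.P f n) U (b • PrinPart.dn f n U c))) =
      u.appLE U P eP b • PrinPart.dn f' n P (u.appLE U P eP c) := by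
  rw [OmegaSh.pullSect_smul, res_smul, Scheme.Modules.Hom.app_smul, ← res_app, hφ, res_dn]
  rfl

theorem app_bijective_pMap (hφ : PrinPart.IsPMap f f' u n φ) (e : U ≤ f ⁻¹ᵁ V)
    (e' : P ≤ f' ⁻¹ᵁ V') (eV : V' ≤ g ⁻¹ᵁ V) (eP : P ≤ u ⁻¹ᵁ U) (hV : IsAffineOpen V)
    (hU : IsAffineOpen U) (hV' : IsAffineOpen V') (hP : IsAffineOpen P)
    (hpo : IsPushout (g.appLE V V' eV) (f.appLE V U e) (f'.appLE V' P e') (u.appLE U P eP)) :
    Function.Bijective (φ.app P) := by
  have : (PrinPart.P f n).IsQuasicoherent := isQCoh_PMod f n _ inferInstance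
  let _ := chartAlg f e
  let _ := chartAlg f' e'
  let _ := sectionsAlg u eP
  let W := nbW f n U
  let p1 : Γ(X, U) →+* Γ(PrinPart.nbhd f n, W) := ((PrinPart.pr1 f n).app U).hom
  let p2 : Γ(X, U) →+* Γ(PrinPart.nbhd f n, W) :=
    ((PrinPart.pr2 f n).appLE U W (PrinPart.preimage_pr1 f n U).le).hom
  let _ : Algebra Γ(X, U) Γ(PrinPart.nbhd f n, W) := p1.toAlgebra
  let fn : Γ(PrinPart.P f n, U) ≃ₗ[Γ(X, U)] Γ(PrinPart.nbhd f n, W) :=
    LinearEquiv.ofBijective
      { toFun := fnP f n U, map_add' := map_add _, map_smul' := fun b s => fnP_smul f n U b s }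
      (fnP_bijective f n U)
  -- the inverse
  let R := Γ(X', P) ⊗[Γ(X, U)] Γ(PrinPart.nbhd f n, W)
  let p : Γ(X', P) →+* R := Algebra.TensorProduct.includeLeftRingHom
  let inR : Γ(PrinPart.nbhd f n, W) →+* R :=
    (Algebra.TensorProduct.includeRight (R := Γ(X, U)) (A := Γ(X', P))).toRingHom
  have hp1 : ∀ b, inR (p1 b) = p (u.appLE U P eP b) := fun b => by
    change (1 : Γ(X', P)) ⊗ₜ[Γ(X, U)] (algebraMap Γ(X, U) _ b) = (algebraMap Γ(X, U) Γ(X', P) b) ⊗ₜ 1
    rw [Algebra.algebraMap_eq_smul_one, Algebra.algebraMap_eq_smul_one, smul_tmul]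
  have hA : ∀ a, p2 (f.appLE V U e a) = p1 (f.appLE V U e a) := fun a =>
    pr2_appLE_base' f n a e
  have hw : g.appLE V V' eV ≫ CommRingCat.ofHom (p.comp (f'.appLE V' P e').hom) =
      f.appLE V U e ≫ CommRingCat.ofHom (inR.comp p2) := by
    ext a
    change p (f'.appLE V' P e' (g.appLE V V' eV a)) = inR (p2 (f.appLE V U e a))
    rw [hA, hp1]
    exact congrArg p (congr($(hpo.w) a))
  let q : Γ(X', P) →+* R := (hpo.desc _ _ hw).hom
  have hq1 : ∀ a, q (f'.appLE V' P e' a) = p (f'.appLE V' P e' a) := fun a =>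
    congr($(hpo.inl_desc _ _ hw) a)
  have hq2 : ∀ c, q (u.appLE U P eP c) = inR (p2 c) := fun c => congr($(hpo.inr_desc _ _ hw) c)
  let _ : Algebra Γ(S', V') R := (p.comp (f'.appLE V' P e').hom).toAlgebra
  let ρ : Γ(X', P) ⊗[Γ(S', V')] Γ(X', P) →ₐ[Γ(S', V')] R :=
    Algebra.TensorProduct.productMap { p with commutes' := fun _ => rfl }
      { q with commutes' := hq1 }
  have hρ : ∀ x y, ρ (x ⊗ₜ y) = p x * q y := fun x y =>
    Algebra.TensorProduct.productMap_apply_tmul _ _ x y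
  -- the ideal killed
  let π₀ := π f n e hV hU
  let J : Ideal R := ((KaehlerDifferential.ideal Γ(S, V) Γ(X, U)).map π₀).map inR
  have hJn : J ^ (n + 1) = ⊥ := by
    rw [← Ideal.map_pow, ← Ideal.map_pow,
      show (KaehlerDifferential.ideal Γ(S, V) Γ(X, U) ^ (n + 1)).map π₀ = ⊥ from
        eq_bot_iff.mpr (Ideal.map_le_iff_le_comap.mpr fun z hz =>
          Ideal.mem_comap.mpr (Ideal.mem_bot.mpr ((π_eq_zero_iff f n e hV hU z).mpr hz))),
      Ideal.map_bot]
  have hmk : (Ideal.Quotient.mk J).comp q = (Ideal.Quotient.mk J).comp p := by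
    have h : CommRingCat.ofHom ((Ideal.Quotient.mk J).comp q) =
        CommRingCat.ofHom ((Ideal.Quotient.mk J).comp p) := by
      refine hpo.hom_ext ?_ ?_
      · ext a
        exact congrArg (Ideal.Quotient.mk J) (hq1 a)
      · ext c
        change Ideal.Quotient.mk J (q (u.appLE U P eP c)) = Ideal.Quotient.mk J (p (u.appLE U P eP c))
        rw [hq2, ← hp1, Ideal.Quotient.eq, ← map_sub]
        refine Ideal.mem_map_of_mem _ ?_
        have : p2 c - p1 c = π₀ (1 ⊗ₜ c - c ⊗ₜ 1) := by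
          rw [map_sub, π_tmul, π_tmul, map_one, map_one, mul_one, one_mul]
        rw [this]
        exact Ideal.mem_map_of_mem _ (KaehlerDifferential.one_smul_sub_smul_one_mem_ideal _ c)
    exact congrArg CommRingCat.Hom.hom h
  have hI : (KaehlerDifferential.ideal Γ(S', V') Γ(X', P)).map ρ ≤ J := by
    rw [← KaehlerDifferential.span_range_eq_ideal, Ideal.map_span, Ideal.span_le]
    rintro _ ⟨_, ⟨y, rfl⟩, rfl⟩
    change ρ (1 ⊗ₜ y - y ⊗ₜ 1) ∈ J
    rw [map_sub, hρ, hρ, map_one, map_one, one_mul, mul_one, ← Ideal.Quotient.eq]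
    exact congr($hmk y)
  let π' := π f' n e' hV' hP
  have hker : RingHom.ker π' ≤ RingHom.ker ρ.toRingHom := fun z hz => by
    rw [RingHom.mem_ker, π_eq_zero_iff] at hz
    have h1 : ρ z ∈ J ^ (n + 1) := by
      refine Ideal.pow_right_mono hI (n + 1) ?_
      rw [← Ideal.map_pow]
      exact Ideal.mem_map_of_mem _ hz
    rw [hJn] at h1
    exact h1
  let ρb : Γ(PrinPart.nbhd f' n, nbW f' n P) →+* R :=
    π'.liftOfSurjective (π_surjective f' n e' hV' hP) ⟨ρ.toRingHom, hker⟩
  have hρb : ∀ z, ρb (π' z) = ρ z := fun z =>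
    π'.liftOfRightInverse_comp_apply _ _ _ z
  -- the comparison
  let E := Groth.QCohMod.pullSecEquiv u (PrinPart.P f n) eP hU hP
  let σ : Γ(X', P) ⊗[Γ(X, U)] Γ(PrinPart.P f n, U) →+ Γ(PrinPart.nbhd f' n, nbW f' n P) :=
    (fnP f' n P).comp ((φ.app P).hom.comp E.toAddEquiv.toAddMonoidHom)
  have hσ : ∀ (b' : Γ(X', P)) (b c : Γ(X, U)), σ (b' ⊗ₜ (b • PrinPart.dn f n U c)) =
      π' ((b' * u.appLE U P eP b) ⊗ₜ u.appLE U P eP c) := fun b' b c => by
    change fnP f' n P (φ.app P (Groth.QCohMod.pullSecTensor u _ eP (b' ⊗ₜ _))) = _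
    rw [Groth.QCohMod.pullSecTensor_tmul, Scheme.Modules.Hom.app_smul]
    refine (congrArg (fun t => fnP f' n P (b' • t)) (φ_pullSect_dn hφ eP b c)).trans ?_
    rw [smul_smul, fnP_smul_dn]
    exact (π_tmul f' n e' hV' hP _ _).symm
  have hb : Function.Bijective σ := by
    constructor
    · have key : ∀ t, ρb (σ t) = LinearMap.lTensor Γ(X', P) fn.toLinearMap t := fun t => by
        induction t using TensorProduct.induction_on with
        | zero => simp
        | tmul b' s =>
          refine P_hom_ext f n e hV hU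
            (ρb.toAddMonoidHom.comp (σ.comp (TensorProduct.mk Γ(X, U) Γ(X', P) _ b').toAddMonoidHom))
            ((LinearMap.lTensor Γ(X', P) fn.toLinearMap).toAddMonoidHom.comp
              (TensorProduct.mk Γ(X, U) Γ(X', P) _ b').toAddMonoidHom) (fun b c => ?_) s
          change ρb (σ (b' ⊗ₜ _)) = b' ⊗ₜ fnP f n U (b • PrinPart.dn f n U c)
          rw [hσ, hρb, hρ, hq2, map_mul, ← hp1, mul_assoc, ← map_mul, fnP_smul_dn]
          change (b' ⊗ₜ[Γ(X, U)] (1 : Γ(PrinPart.nbhd f n, W))) * ((1 : Γ(X', P)) ⊗ₜ (p1 b * p2 c)) = _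
          rw [Algebra.TensorProduct.tmul_mul_tmul, mul_one, one_mul]
        | add a b ha hb => rw [map_add, map_add, map_add, ha, hb]
      intro a b hab
      have h2 := (key a).symm.trans ((congrArg ρb hab).trans (key b))
      exact (LinearEquiv.lTensor Γ(X', P) fn).injective h2
    · intro y
      obtain ⟨z, rfl⟩ := π_surjective f' n e' hV' hP y
      let M : AddSubmonoid Γ(PrinPart.nbhd f' n, nbW f' n P) := AddMonoidHom.mrange σ
      suffices h : π' z ∈ M from h
      induction z using TensorProduct.induction_on with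
      | zero => rw [map_zero]; exact zero_mem M
      | add a b ha hb => rw [map_add]; exact add_mem ha hb
      | tmul x y =>
        let T : Subring Γ(X', P) :=
          ((u.appLE U P eP).hom.range ⊔ (f'.appLE V' P e').hom.range)
        suffices h : ∀ x, π' (x ⊗ₜ y) ∈ M from h x
        clear x
        let _ : Algebra Γ(S, V) Γ(S', V') := (g.appLE V V' eV).hom.toAlgebra
        let _ : Algebra Γ(S, V) Γ(X', P) := (g.appLE V V' eV ≫ f'.appLE V' P e').hom.toAlgebra
        have : IsScalarTower Γ(S, V) Γ(S', V') Γ(X', P) := IsScalarTower.of_algebraMap_eq fun _ ↦ rfl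
        have : IsScalarTower Γ(S, V) Γ(X, U) Γ(X', P) :=
          IsScalarTower.of_algebraMap_eq fun r ↦ congr($(hpo.w) r)
        have hpo' : Algebra.IsPushout Γ(S, V) Γ(S', V') Γ(X, U) Γ(X', P) :=
          CommRingCat.isPushout_iff_isPushout.mp hpo
        induction y using hpo'.out.inductionOn with
        | zero => intro x; rw [tmul_zero, map_zero]; exact zero_mem M
        | tmul c =>
          intro x
          refine ⟨x ⊗ₜ ((1 : Γ(X, U)) • PrinPart.dn f n U c), ?_⟩
          rw [hσ, map_one, mul_one]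
          rfl
        | smul a y hy =>
          intro x
          rw [tmul_smul, smul_tmul']
          exact hy (a • x)
        | add a b ha hb => intro x; rw [tmul_add, map_add]; exact add_mem (ha x) (hb x)
  exact (Function.Bijective.of_comp_iff _ E.bijective).mp
    ((Function.Bijective.of_comp_iff' (fnP_bijective f' n P) _).mp hb)

theorem isIso_pMap (hsq : IsPullback u f' f g) (hφ : PrinPart.IsPMap f f' u n φ) : IsIso φ := by
  have : (PrinPart.P f n).IsQuasicoherent := isQCoh_PMod f n _ inferInstance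
  have : (PrinPart.P f' n).IsQuasicoherent := isQCoh_PMod f' n _ inferInstance
  have := Groth.QCohMod.isQCoh_pullback_obj u (PrinPart.P f n)
  refine isIso_of_affine_cover φ fun x ↦ ?_
  obtain ⟨U, V, e, hV, hU, hxU, -⟩ := exists_chart f (U₀ := ⊤) (u x) trivial
  have hxV : g (f' x) ∈ V := by
    rw [← Scheme.Hom.comp_apply, ← hsq.w, Scheme.Hom.comp_apply]
    exact e hxU
  obtain ⟨_, ⟨V' : S'.Opens, hV', rfl⟩, hxV', hle⟩ :=
    S'.isBasis_affineOpens.exists_subset_of_mem_open (show f' x ∈ g ⁻¹ᵁ V from hxV) (g ⁻¹ᵁ V).2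
  have hle' : V' ≤ g ⁻¹ᵁ V := hle
  let P : X'.Opens := u ⁻¹ᵁ U ⊓ f' ⁻¹ᵁ V'
  have hP : IsAffineOpen P :=
    have : IsAffine U := hU
    have : IsAffine V := hV
    have : IsAffine V' := hV'
    .of_isIso (Scheme.Hom.isPullback_resLE hsq hle' e (UY := P) rfl).isoPullback.hom
  refine ⟨P, hP, ⟨hxU, hxV'⟩,
    app_bijective_pMap hφ e inf_le_right hle' inf_le_left hV hU hV' hP ?_⟩
  exact ((isIso_pushoutSection_iff (H := hsq) hle' e rfl).mp
    (isIso_pushoutSection_of_isAffineOpen hsq hle' e rfl hV hV' hU)).flip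

end Chart

end Groth.PrinPartsAux
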