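import Groth.Agent.SchemeMorphisms.PrinParts.Factor

/-!
# Algebra of differential operators relative to a morphism
-/

universe u

open CategoryTheory Limits AlgebraicGeometry Opposite TopologicalSpace TensorProduct
open Groth.OmegaSheaf Groth.QCohMod

namespace Groth.PrinPartsAux

variable {X S : Scheme.{u}} (f : X ⟶ S) {F G H : X.Modules}

theorem mono {n m : ℕ} (h : n ≤ m) (D : F.presheaf ⟶ G.presheaf)
    (hD : PrinPart.IsDiffOpLE f F G n D) : PrinPart.IsDiffOpLE f F G m D := by
  rw [isDiffOpLE_iff_chartOp] at hD ⊢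
  obtain ⟨hl, hc⟩ := hD
  refine ⟨hl, fun U V e hV hU => ?_⟩
  let _ := chartAlg f e
  let _ := chartModule f e F
  let _ := chartModule f e G
  have := chart_tower f e F
  have := chart_tower f e G
  exact Groth.DiffOps.mono h (hc U V e hV hU)

lemma IsSemilin.comp {D : F.presheaf ⟶ G.presheaf} {D' : G.presheaf ⟶ H.presheaf}
    (h : IsSemilin f D) (h' : IsSemilin f D') : IsSemilin f (D ≫ D') := fun V s U hU t => by
  change D'.app (op U) (D.app (op U) _) = _
  rw [h V s U hU t, h' V s U hU]
  rfl

theorem comp (n n' : ℕ) (D : F.presheaf ⟶ G.presheaf) (D' : G.presheaf ⟶ H.presheaf)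
    (hD : PrinPart.IsDiffOpLE f F G n D) (hD' : PrinPart.IsDiffOpLE f G H n' D') :
    PrinPart.IsDiffOpLE f F H (n + n') (D ≫ D') := by
  rw [isDiffOpLE_iff_chartOp] at hD hD' ⊢
  obtain ⟨hl, hc⟩ := hD
  obtain ⟨hl', hc'⟩ := hD'
  refine ⟨hl.comp f hl', fun U V e hV hU => ?_⟩
  let _ := chartAlg f e
  let _ := chartModule f e F
  let _ := chartModule f e G
  let _ := chartModule f e H
  have := chart_tower f e F
  have := chart_tower f e G
  have := chart_tower f e H
  exact Groth.DiffOps.comp_mem (n + n') n n' rfl (hc U V e hV hU) (hc' U V e hV hU)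

/-- Equality of sections is local. -/
lemma ext_chart {U : X.Opens} (a b : Γ(G, U))
    (h : ∀ (U' : X.Opens) (V : S.Opens) (_ : U' ≤ f ⁻¹ᵁ V) (hle : U' ≤ U), IsAffineOpen V →
      IsAffineOpen U' → res G hle a = res G hle b) : a = b := by
  refine TopCat.Presheaf.section_ext ⟨G.presheaf, G.isSheaf⟩ U _ _ fun x hx => ?_
  obtain ⟨U', V, e, hV, hU', hxU', hle⟩ := exists_chart f x hx
  change germ G x hx a = germ G x hx b
  rw [← germ_res G hle x hxU' a, ← germ_res G hle x hxU' b, h U' V e hle hV hU']

theorem zero_iff (D : F.presheaf ⟶ G.presheaf) :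
    PrinPart.IsDiffOpLE f F G 0 D ↔
      ∀ (U : X.Opens) (a : Γ(X, U)) (t : Γ(F, U)), D.app (op U) (a • t) = a • D.app (op U) t := by
  rw [isDiffOpLE_iff_chartOp]
  constructor
  · rintro ⟨hl, hc⟩ U a t
    refine ext_chart f _ _ fun U' V e hle hV hU' => ?_
    let _ := chartAlg f e
    let _ := chartModule f e F
    let _ := chartModule f e G
    have := chart_tower f e F
    have := chart_tower f e G
    rw [res_smul, res_D, res_smul, res_D]
    exact (Groth.DiffOps.isDiffOpLE_zero_iff _).mp (hc U' V e hV hU') _ _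
  · intro h
    refine ⟨fun V s U hU t => h U _ t, fun U V e _ _ => ?_⟩
    let _ := chartAlg f e
    let _ := chartModule f e F
    let _ := chartModule f e G
    have := chart_tower f e F
    have := chart_tower f e G
    exact (Groth.DiffOps.isDiffOpLE_zero_iff _).mpr (h U)

theorem iff_altSum (n : ℕ) (D : F.presheaf ⟶ G.presheaf) (hlin : IsSemilin f D) :
    PrinPart.IsDiffOpLE f F G n D ↔
      ∀ (U : X.Opens) (a : Fin (n + 1) → Γ(X, U)) (t : Γ(F, U)),
        (∑ H : Finset (Fin (n + 1)),
          ((-1 : ℤ) ^ H.card) • ((∏ i ∈ H, a i) • D.app (op U) ((∏ i ∈ Hᶜ, a i) • t))) = 0 := by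
  rw [isDiffOpLE_iff_chartOp]
  constructor
  · rintro ⟨hl, hc⟩ U a t
    refine ext_chart f _ _ fun U' V e hle hV hU' => ?_
    let _ := chartAlg f e
    let _ := chartModule f e F
    let _ := chartModule f e G
    have := chart_tower f e F
    have := chart_tower f e G
    have h0 := (Groth.DiffOps.iff_altSum n _).mp (hc U' V e hV hU')
      (fun i => resFun X hle (a i)) (res F hle t)
    rw [map_zero, map_sum]
    refine Eq.trans ?_ h0
    refine Finset.sum_congr rfl fun H _ => ?_
    rw [map_zsmul, res_smul, res_D, res_smul, map_prod, map_prod]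
    rfl
  · intro h
    refine ⟨hlin, fun U V e _ _ => ?_⟩
    let _ := chartAlg f e
    let _ := chartModule f e F
    let _ := chartModule f e G
    have := chart_tower f e F
    have := chart_tower f e G
    exact (Groth.DiffOps.iff_altSum n _).mpr (h U)

lemma isDiffOpLE_dPHom (n : ℕ) (F : X.Modules) :
    PrinPart.IsDiffOpLE f F (PrinPart.PMod f n F) n (PrinPart.dPHom f n F) :=
  ⟨𝟙 _, fun _ _ => rfl⟩

theorem dP_zero_bijective (F : X.Modules) (U : X.Opens) :
    Function.Bijective (PrinPart.dP f 0 F U) := by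
  obtain ⟨u, hu⟩ := (zero_iff f (𝟙 F.presheaf)).mpr fun _ _ _ => rfl
  have hlin := (zero_iff f (PrinPart.dPHom f 0 F)).mp (isDiffOpLE_dPHom f 0 F)
  let w : F ⟶ PrinPart.PMod f 0 F :=
    ⟨{ app := fun U => ModuleCat.ofHom (X := F.val.obj U) (Y := (PrinPart.PMod f 0 F).val.obj U)
        { toFun := fun t => PrinPart.dP f 0 F U.unop t
          map_add' := map_add _
          map_smul' := fun r t => hlin U.unop r t }
       naturality := fun {U V} i => by
        ext t
        exact PrinPart.dP_map f 0 F (leOfHom i.unop) t }⟩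
  have hw : u ≫ w = 𝟙 _ := hom_ext' f 0 F _ _ fun U t => by
    change PrinPart.dP f 0 F U (u.app U (PrinPart.dP f 0 F U t)) = _
    rw [← hu U t]
    rfl
  constructor
  · intro a b hab
    have h1 := hu U a
    have h2 := hu U b
    rw [hab, ← h2] at h1
    exact h1
  · intro s
    exact ⟨u.app U s, congr(($hw).app U s)⟩

theorem exists_delta (n n' : ℕ) :
    ∃! δ : PrinPart.P f (n + n') ⟶ PrinPart.PMod f n' (PrinPart.P f n),
      ∀ (U : X.Opens) (t : Γ(X, U)),
        δ.app U (PrinPart.dn f (n + n') U t) =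
          PrinPart.dP f n' (PrinPart.P f n) U (PrinPart.dn f n U t) := by
  obtain ⟨δ, hδ⟩ := comp f n n' _ _ (isDiffOpLE_dPHom f n (Coh.structureModule X))
    (isDiffOpLE_dPHom f n' (PrinPart.P f n))
  have h0 : ∀ (U : X.Opens) (t : Γ(X, U)), δ.app U (PrinPart.dn f (n + n') U t) =
      PrinPart.dP f n' (PrinPart.P f n) U (PrinPart.dn f n U t) :=
    fun U t => (hδ U (OmegaSh.strSect X U t)).symm
  refine ⟨δ, h0, fun δ' hδ' => hom_ext' f _ _ _ _ fun U t => ?_⟩
  exact (hδ' U (OmegaSh.fnSect X U t)).trans (h0 U (OmegaSh.fnSect X U t)).symm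

section OrderOne

variable (D : (Coh.structureModule X).presheaf ⟶ G.presheaf)

/-- `D (1)`. -/
noncomputable abbrev valOne (U : X.Opens) : Γ(G, U) := D.app (op U) (OmegaSh.strSect X U 1)

lemma res_valOne {U V : X.Opens} (h : V ≤ U) : res G h (valOne D U) = valOne D V := by
  rw [res_D]
  exact congrArg (D.app (op V)) (congrArg (OmegaSh.strSect X V) (map_one (resFun X h)))

/-- The linear part. -/
noncomputable def linPart : Coh.structureModule X ⟶ G :=
  ⟨{ app := fun U => ModuleCat.ofHom (X := (Coh.structureModule X).val.obj U) (Y := G.val.obj U)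
      { toFun := fun a => OmegaSh.fnSect X U.unop a • valOne D U.unop
        map_add' := fun a b => add_smul (R := Γ(X, U.unop)) _ _ _
        map_smul' := fun r a => mul_smul (α := Γ(X, U.unop)) r (OmegaSh.fnSect X U.unop a) _ }
     naturality := fun {U V} i => by
      refine ModuleCat.hom_ext (LinearMap.ext fun a => ?_)
      refine Eq.trans ?_ (res_smul G (leOfHom i.unop) (OmegaSh.fnSect X U.unop a) (valOne D U.unop)).symm
      rw [res_valOne]
      rfl }⟩

lemma linPart_app (U : X.Opens) (a : Γ(X, U)) :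
    (linPart D).app U (OmegaSh.strSect X U a) = a • valOne D U := rfl

theorem existsUnique_split (hD : PrinPart.IsDiffOpLE f (Coh.structureModule X) G 1 D) :
    ∃! p : (Coh.structureModule X ⟶ G) × OmegaSh.Der f G,
      ∀ (U : X.Opens) (a : Γ(X, U)),
        D.app (op U) (OmegaSh.strSect X U a) =
          p.1.app U (OmegaSh.strSect X U a) + p.2.app U a := by
  have hl : IsSemilin f D := semilin_of_factor f 1 D hD
  have hleib : ∀ (U : X.Opens) (a b : Γ(X, U)),
      D.app (op U) (OmegaSh.strSect X U (a * b)) = a • D.app (op U) (OmegaSh.strSect X U b) +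
        b • D.app (op U) (OmegaSh.strSect X U a) - (a * b) • valOne D U := by
    intro U a b
    have h := (iff_altSum f 1 D hl).mp hD U ![a, b] (OmegaSh.strSect X U 1)
    have he : (Finset.univ : Finset (Finset (Fin (1 + 1)))) = {∅, {0}, {1}, {0, 1}} := by decide
    have hc0 : ({0} : Finset (Fin (1 + 1)))ᶜ = {1} := by decide
    have hc1 : ({1} : Finset (Fin (1 + 1)))ᶜ = {0} := by decide
    have hc2 : ({0, 1} : Finset (Fin (1 + 1)))ᶜ = ∅ := by decide
    have hc3 : (∅ : Finset (Fin (1 + 1)))ᶜ = {0, 1} := by decide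
    rw [he] at h
    simp only [Finset.sum_insert (by decide : (∅ : Finset (Fin (1 + 1))) ∉ ({{0}, {1}, {0, 1}} : Finset _)),
      Finset.sum_insert (by decide : ({0} : Finset (Fin (1 + 1))) ∉ ({{1}, {0, 1}} : Finset _)),
      Finset.sum_insert (by decide : ({1} : Finset (Fin (1 + 1))) ∉ ({{0, 1}} : Finset _)),
      Finset.sum_singleton, hc0, hc1, hc2, hc3, Finset.card_empty, Finset.card_singleton,
      Finset.card_pair (by decide : (0 : Fin (1 + 1)) ≠ 1), Finset.prod_empty, Finset.prod_singleton,
      Finset.prod_pair (by decide : (0 : Fin (1 + 1)) ≠ 1), Matrix.cons_val_zero, Matrix.cons_val_one,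
      pow_zero, pow_one, neg_one_sq, one_smul, neg_one_zsmul] at h
    rw [← OmegaSh.strSect_mul, ← OmegaSh.strSect_mul, ← OmegaSh.strSect_mul, mul_one, mul_one,
      mul_one] at h
    rw [← sub_eq_zero, ← h]
    abel
  let dd : ∀ U : X.Opens, Γ(X, U) →+ Γ(G, U) := fun U => AddMonoidHom.mk'
    (fun a => D.app (op U) (OmegaSh.strSect X U a) - a • valOne D U)
    (fun a b => by rw [map_add, map_add, add_smul]; abel)
  let d : OmegaSh.Der f G :=
    { d := fun {U} => dd U.unop
      d_mul := fun {U} (a b : Γ(X, U.unop)) => by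
        change dd U.unop (a * b) = a • dd U.unop b + b • dd U.unop a
        simp only [dd, AddMonoidHom.mk'_apply]
        rw [hleib, smul_sub, smul_sub, mul_smul, smul_comm b a]
        abel
      d_map := fun {U V} i (x : Γ(X, U.unop)) => by
        change dd V.unop (resFun X (leOfHom i.unop) x) = res G (leOfHom i.unop) (dd U.unop x)
        simp only [dd, AddMonoidHom.mk'_apply]
        rw [map_sub, res_smul, res_valOne, res_D]
        rfl
      d_app := fun {V} (s : Γ(S, V.unop)) => by
        change dd (f ⁻¹ᵁ V.unop) (f.app V.unop s) = 0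
        simp only [dd, AddMonoidHom.mk'_apply]
        rw [sub_eq_zero]
        have h1 := hl V.unop s (f ⁻¹ᵁ V.unop) le_rfl (OmegaSh.strSect X _ 1)
        rw [show X.presheaf.map (homOfLE (le_refl (f ⁻¹ᵁ V.unop))).op (f.app V.unop s) =
          f.app V.unop s from resFun_self (f.app V.unop s)] at h1
        refine Eq.trans ?_ h1
        rw [← OmegaSh.strSect_mul, mul_one] }
  have hd : ∀ (U : X.Opens) (a : Γ(X, U)), D.app (op U) (OmegaSh.strSect X U a) =
      (linPart D).app U (OmegaSh.strSect X U a) + d.app U a := fun U a =>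
    (add_sub_cancel (a • valOne D U) _).symm
  refine ⟨(linPart D, d), hd, ?_⟩
  rintro ⟨v, e⟩ hp
  have he1 : ∀ U : X.Opens, e.app U 1 = 0 := fun U => by
    have := e.d_mul (X := op U) 1 1
    rw [mul_one, one_smul] at this
    exact left_eq_add.mp this
  have hv : ∀ (U : X.Opens) (a : Γ(X, U)), v.app U (OmegaSh.strSect X U a) = a • valOne D U := by
    intro U a
    conv_lhs => rw [← mul_one a, OmegaSh.strSect_mul, Scheme.Modules.Hom.app_smul]
    refine congrArg (a • ·) ?_
    have := hp U 1
    rw [show e.app U 1 = 0 from he1 U, add_zero] at this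
    exact this.symm
  refine Prod.ext ?_ ?_
  · ext U a
    exact hv U (OmegaSh.fnSect X U a)
  · refine PresheafOfModules.Derivation.ext (funext fun U => ?_)
    refine AddMonoidHom.ext fun (a : Γ(X, U.unop)) => ?_
    change e.app U.unop a = D.app (op U.unop) (OmegaSh.strSect X U.unop a) - a • valOne D U.unop
    have h1 := hp U.unop a
    change D.app (op U.unop) _ = v.app U.unop _ + e.app U.unop a at h1
    rw [h1, hv, add_sub_cancel_left]

end OrderOne

end Groth.PrinPartsAux
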