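import Mathlib.RingTheory.Flat.Equalizer
import Mathlib.RingTheory.TensorProduct.Maps
import Mathlib.RingTheory.IsTensorProduct

universe u
open TensorProduct
namespace Groth.PrinPartsAux

/-- Successive quotients flat over the base keep powers of an ideal injective after base change. -/
theorem pow_lTensor_injective {A R A' : Type u} [CommRing A] [CommRing R] [Algebra A R]
    [AddCommGroup A'] [Module A A'] (J : Ideal R) (n : ℕ)
    (h : ∀ k < n, ∃ (G : Type u) (_ : AddCommGroup G) (_ : Module A G) (_ : Module.Flat A G)
      (q : ↥((J ^ k).restrictScalars A) →ₗ[A] G),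
      Function.Surjective q ∧ ∀ x, q x = 0 ↔ (x : R) ∈ J ^ (k + 1)) :
    Function.Injective (((J ^ n).restrictScalars A).subtype.lTensor A') := by
  induction n with
  | zero =>
    let e : ↥((J ^ 0).restrictScalars A) ≃ₗ[A] R :=
      LinearEquiv.ofTop _ (by rw [pow_zero, Ideal.one_eq_top]; rfl)
    have : ((J ^ 0).restrictScalars A).subtype = e.toLinearMap := LinearMap.ext fun _ => rfl
    rw [this]
    exact (e.lTensor A').injective
  | succ k ih =>
    obtain ⟨G, _, _, _, q, hq, hq0⟩ := h k (Nat.lt_succ_self k)
    let ι : ↥((J ^ (k + 1)).restrictScalars A) →ₗ[A] ↥((J ^ k).restrictScalars A) :=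
      Submodule.inclusion (fun x hx => Ideal.pow_le_pow_right (Nat.le_succ k) hx)
    have hex : Function.Exact ι q := fun x => by
      rw [hq0]
      exact ⟨fun hx => ⟨⟨x, hx⟩, rfl⟩, by rintro ⟨y, rfl⟩; exact y.2⟩
    have hι := LinearMap.lTensor_injective_of_exact_of_flat q hq ι
      (Submodule.inclusion_injective _) hex A'
    have hc : ((J ^ (k + 1)).restrictScalars A).subtype =
        ((J ^ k).restrictScalars A).subtype ∘ₗ ι := rfl
    rw [hc, LinearMap.lTensor_comp]
    exact (ih fun j hj => h j (Nat.lt_succ_of_lt hj)).comp hι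

/-- Over a pushout of rings, base change of an ideal can be computed over the smaller ring. -/
theorem lTensor_injective_of_isPushout {A R A' R' : Type u} [CommRing A] [CommRing R] [CommRing A']
    [CommRing R'] [Algebra A R] [Algebra A A'] [Algebra R R'] [Algebra A' R'] [Algebra A R']
    [IsScalarTower A R R'] [IsScalarTower A A' R'] [hpo : Algebra.IsPushout A A' R R'] (I : Ideal R)
    (h : Function.Injective ((I.restrictScalars A).subtype.lTensor A')) :
    Function.Injective (I.subtype.lTensor R') := by
  let l : A' ⊗[A] ↥(I.restrictScalars A) →ₗ[A] R' ⊗[R] I :=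
    TensorProduct.lift (LinearMap.mk₂ A
      (fun (a : A') (x : ↥(I.restrictScalars A)) => algebraMap A' R' a ⊗ₜ[R] (⟨x.1, x.2⟩ : I))
      (fun a b x => by rw [map_add, add_tmul])
      (fun c a x => by
        rw [smul_tmul', Algebra.smul_def, map_mul, Algebra.smul_def,
          ← IsScalarTower.algebraMap_apply])
      (fun a x y => by rw [← tmul_add]; rfl)
      (fun c a x => by
        change _ ⊗ₜ[R] (c • (⟨x.1, x.2⟩ : I)) = _
        rw [tmul_smul]))
  have hl : ∀ a x, l (a ⊗ₜ x) = algebraMap A' R' a ⊗ₜ (⟨x.1, x.2⟩ : I) := fun _ _ => rfl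
  have hsurj : Function.Surjective l := by
    intro t
    induction t using TensorProduct.induction_on with
    | zero => exact ⟨0, map_zero l⟩
    | add a b ha hb =>
      obtain ⟨p, rfl⟩ := ha
      obtain ⟨q, rfl⟩ := hb
      exact ⟨p + q, map_add l p q⟩
    | tmul r x =>
      revert x
      induction r using hpo.out.inductionOn with
      | zero => intro x; exact ⟨0, by rw [map_zero, zero_tmul]⟩
      | tmul r =>
        intro x
        refine ⟨1 ⊗ₜ ⟨r * x.1, I.mul_mem_left r x.2⟩, ?_⟩
        rw [hl, map_one]
        change (1 : R') ⊗ₜ[R] (r • x) = algebraMap R R' r ⊗ₜ x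
        rw [tmul_smul, smul_tmul', Algebra.smul_def, mul_one]
      | smul a r hr =>
        intro x
        obtain ⟨p, hp⟩ := hr x
        refine ⟨(LinearMap.mulLeft A a).rTensor _ p, ?_⟩
        have key : ∀ p, l ((LinearMap.mulLeft A a).rTensor _ p) =
            algebraMap A' R' a • l p := fun p => by
          induction p using TensorProduct.induction_on with
          | zero => simp
          | tmul b y => simp [hl, smul_tmul', Algebra.smul_def]
          | add p q hp hq => simp only [map_add, hp, hq, smul_add]
        rw [key, hp, smul_tmul', Algebra.smul_def a r]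
        rfl
      | add p q hp hq =>
        intro x
        obtain ⟨a, ha⟩ := hp x
        obtain ⟨b, hb⟩ := hq x
        exact ⟨a + b, by rw [map_add, ha, hb, add_tmul]⟩
  let E : A' ⊗[A] R → R' := hpo.out.equiv
  have hcomp : ∀ t, TensorProduct.rid R R' (I.subtype.lTensor R' (l t)) =
      E ((I.restrictScalars A).subtype.lTensor A' t) := fun t => by
    induction t using TensorProduct.induction_on with
    | zero => simp [E]
    | tmul a x =>
      simp only [hl, LinearMap.lTensor_tmul, TensorProduct.rid_tmul, E,
        IsBaseChange.equiv_tmul, Submodule.subtype_apply, Algebra.smul_def]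
      exact mul_comm _ _
    | add p q hp hq =>
      simp only [E] at hp hq ⊢
      simp only [map_add, hp, hq]
  intro p q hpq
  obtain ⟨a, rfl⟩ := hsurj p
  obtain ⟨b, rfl⟩ := hsurj q
  have := congrArg (TensorProduct.rid R R') hpq
  rw [hcomp, hcomp] at this
  exact congrArg l (h (hpo.out.equiv.injective this))

end Groth.PrinPartsAux
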