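import Groth.Agent.SchemeMorphisms.PrinParts.GrIso
import Groth.Agent.SchemeMorphisms.PrinParts.PowInj
import Groth.Agent.Misc8.PinchFlat

/-!
# Graded pieces of a section and base change
-/

universe u

open CategoryTheory Limits AlgebraicGeometry Opposite TopologicalSpace TensorProduct
open Groth.OmegaSheaf

namespace Groth.PrinPartsAux

variable {X Y X' Y' : Scheme.{u}} {g : X ⟶ Y} {f : Y ⟶ X} {u : Y' ⟶ Y} {v : X' ⟶ X}
  {g' : X' ⟶ Y'} {f' : Y' ⟶ X'}

lemma isPullback_section (hf : f ≫ g = 𝟙 Y) (hsq : IsPullback v g' g u) (hf' : f' ≫ g' = 𝟙 Y')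
    (hf'v : f' ≫ v = u ≫ f) : IsPullback u f' f v := by
  refine IsPullback.of_bot ?_ hf'v.symm hsq
  rw [hf, hf']
  exact IsPullback.of_id_snd

lemma flat_res_affine {Z : Scheme.{u}} {V T : Z.Opens} (hV : IsAffineOpen V) (hT : IsAffineOpen T)
    (h : T ≤ V) : (Z.presheaf.map (homOfLE h).op).hom.Flat := by
  have h1 := Flat.flat_appLE (𝟙 Z) hV hT h
  rwa [show (𝟙 Z : Z ⟶ Z).appLE V T h = Z.presheaf.map (homOfLE h).op by
    rw [Scheme.Hom.appLE, Scheme.Hom.id_app]; exact Category.id_comp _] at h1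

theorem isIso_grMap_section [IsClosedImmersion f] (hf : f ≫ g = 𝟙 Y) (hsq : IsPullback v g' g u)
    (hf' : f' ≫ g' = 𝟙 Y') (hf'v : f' ≫ v = u ≫ f) {n : ℕ}
    (hflat : ∀ k, 0 < k → k < n → FlatMod.IsFlat (PrinPart.grMod f k))
    {φ : (Scheme.Modules.pullback u).obj (PrinPart.grMod f n) ⟶ PrinPart.grMod f' n}
    (hφ : PrinPart.IsGrMap f' f v u n φ) : IsIso φ := by
  have hsq' := isPullback_section hf hsq hf' hf'v
  have := isClosedImmersion_of_sq hsq'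
  have := Groth.QCohMod.isQCoh_pullback_obj u (PrinPart.grMod f n)
  refine isIso_of_affine_cover φ fun z => ?_
  have hg : g (f (u z)) = u z := by rw [← Scheme.Hom.comp_apply, hf]; rfl
  obtain ⟨_, ⟨V, hV, rfl⟩, hzV, -⟩ :=
    Y.isBasis_affineOpens.exists_subset_of_mem_open (Set.mem_univ (u z)) isOpen_univ
  obtain ⟨_, ⟨W, hW, rfl⟩, hzW, hsubW⟩ := X.isBasis_affineOpens.exists_subset_of_mem_open
    (show f (u z) ∈ g ⁻¹ᵁ V by change g (f (u z)) ∈ V; rwa [hg]) (g ⁻¹ᵁ V).isOpen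
  obtain ⟨_, ⟨V', hV', rfl⟩, hzV', hsubV⟩ := Y'.isBasis_affineOpens.exists_subset_of_mem_open
    (show z ∈ u ⁻¹ᵁ V from hzV) (u ⁻¹ᵁ V).isOpen
  have eW : W ≤ g ⁻¹ᵁ V := hsubW
  have eV : V' ≤ u ⁻¹ᵁ V := hsubV
  let W' : X'.Opens := v ⁻¹ᵁ W ⊓ g' ⁻¹ᵁ V'
  have hW' : IsAffineOpen W' :=
    have : IsAffine W := hW
    have : IsAffine V := hV
    have : IsAffine V' := hV'
    .of_isIso (Scheme.Hom.isPullback_resLE hsq eV eW (UY := W') rfl).isoPullback.hom
  have hzW' : f' z ∈ W' := by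
    refine ⟨?_, ?_⟩
    · change v (f' z) ∈ W
      rw [← Scheme.Hom.comp_apply, hf'v]
      exact hzW
    · change g' (f' z) ∈ V'
      rw [← Scheme.Hom.comp_apply, hf']
      exact hzV'
  have e : W' ≤ v ⁻¹ᵁ W := inf_le_left
  obtain ⟨hs, hi⟩ := grMap_app_surjective_and_injective f' f v u hφ (isConormalChart_of_affine f hW)
    (isConormalChart_of_affine f' hW') e (ker_le_map_of_sq hsq' hW hW' e)
  refine ⟨f' ⁻¹ᵁ W', hW'.preimage f', hzW', hi ?_, hs⟩
  -- the rings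
  have hpo : IsPushout (u.appLE V V' eV) (g.appLE V W eW) (g'.appLE V' W' inf_le_right)
      (v.appLE W W' e) :=
    ((isIso_pushoutSection_iff (H := hsq) eV eW rfl).mp
      (isIso_pushoutSection_of_isAffineOpen hsq eV eW rfl hV hV' hW)).flip
  let _ : Algebra Γ(Y, V) Γ(X, W) := (g.appLE V W eW).hom.toAlgebra
  let _ : Algebra Γ(Y, V) Γ(Y', V') := (u.appLE V V' eV).hom.toAlgebra
  let _ : Algebra Γ(X, W) Γ(X', W') := (v.appLE W W' e).hom.toAlgebra
  let _ : Algebra Γ(Y', V') Γ(X', W') := (g'.appLE V' W' inf_le_right).hom.toAlgebra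
  let _ : Algebra Γ(Y, V) Γ(X', W') :=
    (u.appLE V V' eV ≫ g'.appLE V' W' inf_le_right).hom.toAlgebra
  have : IsScalarTower Γ(Y, V) Γ(Y', V') Γ(X', W') := IsScalarTower.of_algebraMap_eq fun _ ↦ rfl
  have : IsScalarTower Γ(Y, V) Γ(X, W) Γ(X', W') :=
    IsScalarTower.of_algebraMap_eq fun r ↦ congr($(hpo.w) r)
  have : Algebra.IsPushout Γ(Y, V) Γ(Y', V') Γ(X, W) Γ(X', W') :=
    CommRingCat.isPushout_iff_isPushout.mp hpo
  refine lTensor_injective_of_isPushout (A := Γ(Y, V)) (A' := Γ(Y', V')) _ ?_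
  refine pow_lTensor_injective (A' := Γ(Y', V')) _ n fun k hk => ?_
  -- the graded pieces
  have hch : IsConormalChart f W := isConormalChart_of_affine f hW
  have hT : f ⁻¹ᵁ W ≤ V := fun y hy => by
    have h := eW hy
    change g (f y) ∈ V at h
    rwa [← Scheme.Hom.comp_apply, hf] at h
  have hres : ∀ r, f.app W (g.appLE V W eW r) = Y.presheaf.map (homOfLE hT).op r := fun r => by
    rw [Scheme.Hom.app_eq_appLE, ← CommRingCat.comp_apply, Scheme.Hom.appLE_comp_appLE]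
    have key : ∀ (q : Y ⟶ Y), q = 𝟙 Y → ∀ h : f ⁻¹ᵁ W ≤ q ⁻¹ᵁ V,
        q.appLE V (f ⁻¹ᵁ W) h r = Y.presheaf.map (homOfLE hT).op r := by
      rintro q rfl h
      rw [Scheme.Hom.appLE, Scheme.Hom.id_app]
      exact congr($(Category.id_comp (Y.presheaf.map (homOfLE hT).op)) r)
    exact key _ hf _
  let _ : Algebra Γ(Y, V) Γ(Y, f ⁻¹ᵁ W) := (Y.presheaf.map (homOfLE hT).op).hom.toAlgebra
  have hfl : Module.Flat Γ(Y, V) Γ(Y, f ⁻¹ᵁ W) := flat_res_affine hV hch.affine_preimage hT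
  rcases Nat.eq_zero_or_pos k with rfl | hk0
  · let K := RingHom.ker (f.app W).hom
    let q : ↥((K ^ 0).restrictScalars Γ(Y, V)) →ₗ[Γ(Y, V)] Γ(Y, f ⁻¹ᵁ W) :=
      { toFun := fun x => f.app W x.1
        map_add' := fun a b => map_add (f.app W).hom a.1 b.1
        map_smul' := fun r a => by
          change f.app W (g.appLE V W eW r * a.1) = Y.presheaf.map (homOfLE hT).op r * f.app W a.1
          rw [map_mul, hres] }
    refine ⟨Γ(Y, f ⁻¹ᵁ W), inferInstance, inferInstance, hfl, q, fun y => ?_, fun x => ?_⟩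
    · obtain ⟨x, rfl⟩ := hch.surjective y
      exact ⟨⟨x, by rw [pow_zero, Ideal.one_eq_top]; trivial⟩, rfl⟩
    · rw [zero_add, pow_one]
      rfl
  let G := Γ(PrinPart.grMod f k, f ⁻¹ᵁ W)
  have hG : Module.Flat Γ(Y, f ⁻¹ᵁ W) G :=
    Groth.Misc8.PinchMod.flat_sections _ (hflat k hk0 hk) hch.affine_preimage
  let _ : Module Γ(Y, V) G := Module.compHom _ (Y.presheaf.map (homOfLE hT).op).hom
  have : IsScalarTower Γ(Y, V) Γ(Y, f ⁻¹ᵁ W) G := IsScalarTower.of_algebraMap_smul fun _ _ ↦ rfl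
  let K := RingHom.ker (f.app W).hom
  have hK : (f.ker ^ k).ideal ⟨W, hW⟩ = K ^ k := by
    rw [idealPow_ideal, ker_ideal_eq (i := f) hW]
  let E := idealSecEquiv (f.ker ^ k) ⟨W, hW⟩
  let q : ↥((K ^ k).restrictScalars Γ(Y, V)) →ₗ[Γ(Y, V)] G :=
    { toFun := fun x => PrinPart.grSect f k W (E.symm ⟨x.1, hK.symm ▸ x.2⟩)
      map_add' := fun a b => by rw [← map_add, ← map_add]; rfl
      map_smul' := fun r a => by
        change _ = Y.presheaf.map (homOfLE hT).op r • PrinPart.grSect f k W _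
        rw [← hres, ← grSect_smul, ← map_smul]
        rfl }
  refine ⟨G, inferInstance, inferInstance, Module.Flat.trans Γ(Y, V) Γ(Y, f ⁻¹ᵁ W) G, q,
    fun y => ?_, fun x => ?_⟩
  · obtain ⟨s, rfl⟩ := grSect_surjective k hch y
    refine ⟨⟨(E s).1, hK ▸ (E s).2⟩, ?_⟩
    change PrinPart.grSect f k W (E.symm _) = _
    rw [show (⟨(E s).1, _⟩ : (f.ker ^ k).ideal ⟨W, hW⟩) = E s from rfl, E.symm_apply_apply]
  · change PrinPart.grSect f k W (E.symm _) = 0 ↔ _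
    have hx : OmegaSh.idealSect (f.ker ^ k) W (E.symm ⟨x.1, hK.symm ▸ x.2⟩) = x.1 :=
      (idealSecEquiv_apply (f.ker ^ k) ⟨W, hW⟩ _).symm.trans
        congr(($(E.apply_symm_apply ⟨x.1, hK.symm ▸ x.2⟩)).1)
    rw [grSect_eq_zero_iff k hch, hx]

end Groth.PrinPartsAux
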