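import Groth.Prelude.Def_OmegaPn
import Mathlib.AlgebraicGeometry.Morphisms.Proper
universe u
open CategoryTheory Limits AlgebraicGeometry
namespace Groth.PrinPartsAux

theorem isFinite_infNbhd {X Y : Scheme.{u}} (g : X ⟶ Y) [LocallyOfFiniteType g] (f : Y ⟶ X)
    [IsClosedImmersion f] (hf : f ≫ g = 𝟙 Y) (n : ℕ) :
    IsFinite (PrinPart.infNbhdι f n ≫ g) := by
  let h := PrinPart.infNbhdι f n ≫ g
  let t := PrinPart.toInfNbhd f n
  have hth : t ≫ h = 𝟙 Y := by simp [t, h, hf]
  have hts : Function.Surjective t := PrinPart.toInfNbhd_surjective f n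
  have h1 : ∀ y, h (t y) = y := fun y => by rw [← Scheme.Hom.comp_apply, hth]; rfl
  have : Surjective t := ⟨hts⟩
  have h2 : ∀ z, t (h z) = z := fun z => by obtain ⟨y, rfl⟩ := hts z; rw [h1]
  let e : PrinPart.infNbhd f n ≃ₜ Y :=
    { toFun := h, invFun := t, left_inv := h2, right_inv := h1,
      continuous_toFun := h.continuous, continuous_invFun := t.continuous }
  have : IsAffineHom h := isAffineHom_of_isInducing h e.isInducing e.isClosedEmbedding.isClosed_range
  have : IsClosedImmersion (PrinPart.infNbhdι f n) :=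
    inferInstanceAs (IsClosedImmersion (f.ker ^ (n + 1)).subschemeι)
  have : LocallyOfFiniteType h := inferInstanceAs (LocallyOfFiniteType (_ ≫ g))
  have : UniversallyClosed (t ≫ h) := by rw [hth]; infer_instance
  have : UniversallyClosed h := UniversallyClosed.of_comp_surjective t h
  have : IsProper h := {}
  exact IsFinite.iff_isProper_and_isAffineHom.mpr ⟨this, inferInstance⟩

end Groth.PrinPartsAux
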