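import Groth.Agent.SchemeMorphisms.PrinParts.Gen
import Groth.Agent.S11131

/-!
# `P^n` preserves colimits
-/

universe u

open CategoryTheory Limits AlgebraicGeometry Opposite TopologicalSpace

namespace Groth.PrinPartsAux

variable {X S : Scheme.{u}} (f : X ⟶ S) (n : ℕ)

instance isCocontinuous_map_pr1 :
    (Opens.map (PrinPart.pr1 f n).base).IsCocontinuous (Opens.grothendieckTopology X)
      (Opens.grothendieckTopology (PrinPart.nbhd f n)) where
  cover_lift {U} s hs := by
    intro x hx
    have hx' : PrinPart.toNbhd f n x ∈ (Opens.map (PrinPart.pr1 f n).base).obj U :=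
      toNbhd_mem_nbW f n hx
    obtain ⟨V, i, hi, hxV⟩ := hs _ hx'
    have hle : PrinPart.toNbhd f n ⁻¹ᵁ V ≤ U := fun z hz => by
      have h := leOfHom i hz
      change PrinPart.pr1 f n (PrinPart.toNbhd f n z) ∈ U at h
      rwa [pr1_toNbhd] at h
    refine ⟨PrinPart.toNbhd f n ⁻¹ᵁ V, homOfLE hle, ?_, hxV⟩
    have h := s.downward_closed hi (homOfLE (nbW_toNbhd_preimage f n V).le)
    exact h

theorem preservesColimits_PMod :
    PreservesColimitsOfSize.{u, u}
      ((Scheme.Modules.pullback (PrinPart.pr2 f n)) ⋙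
        (Scheme.Modules.pushforward (PrinPart.pr1 f n))) := by
  have h : (Scheme.Modules.pushforward (PrinPart.pr1 f n)).IsLeftAdjoint :=
    Groth.Agent.S11131.result (Opens.grothendieckTopology X)
      (Opens.grothendieckTopology (PrinPart.nbhd f n)) (Opens.map (PrinPart.pr1 f n).base)
      (coverPreserving_opens_map _) (PrinPart.pr1 f n).toRingCatSheafHom
  have h' : (Scheme.Modules.pullback (PrinPart.pr2 f n)).IsLeftAdjoint :=
    (Scheme.Modules.pullbackPushforwardAdjunction _).isLeftAdjoint
  have := (Adjunction.ofIsLeftAdjoint (Scheme.Modules.pushforward (PrinPart.pr1 f n))).leftAdjoint_preservesColimits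
  have := (Adjunction.ofIsLeftAdjoint (Scheme.Modules.pullback (PrinPart.pr2 f n))).leftAdjoint_preservesColimits
  infer_instance

end Groth.PrinPartsAux
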