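import Groth.Agent.SchemeMorphisms.PrinParts.Finite
import Groth.Agent.QCohMod.QCQS
import Groth.Agent.QCohMod.PullbackQCoh
import Groth.Agent.QCohMod.Coherent

/-!
# Finiteness of principal parts
-/

universe u

open CategoryTheory Limits AlgebraicGeometry

namespace Groth.PrinPartsAux

variable {X S : Scheme.{u}} (f : X ⟶ S) [LocallyOfFiniteType f] (n : ℕ)

theorem isFinite_pr1 : IsFinite (PrinPart.pr1 f n) := by
  have : IsClosedImmersion (PrinPart.diagCl f) := inferInstance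
  have : LocallyOfFiniteType ((pullback.diagonal f).coborderRange.ι ≫ pullback.fst f f) := inferInstance
  have h := isFinite_infNbhd ((pullback.diagonal f).coborderRange.ι ≫ pullback.fst f f)
    (PrinPart.diagCl f) (by rw [Scheme.Hom.liftCoborder_ι_assoc, pullback.diagonal_fst]) n
  rwa [PrinPart.pr1, PrinPart.nbhdι, Category.assoc]

theorem isCoh_PMod (F : X.Modules) (hF : Coh.IsCoh F) : Coh.IsCoh (PrinPart.PMod f n F) := by
  have := isFinite_pr1 f n
  have : F.IsQuasicoherent := hF.1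
  let p := PrinPart.pr1 f n
  let M := (Scheme.Modules.pullback (PrinPart.pr2 f n)).obj F
  have : M.IsQuasicoherent := Groth.QCohMod.isQCoh_pullback_obj _ F
  have hM : Coh.IsCoh M := ⟨inferInstance, Groth.QCohMod.isFT_pullback _ F hF.2⟩
  refine (Groth.QCohMod.isCoh_iff _).2 ⟨Groth.QCohMod.isQCoh_pushforward (M := M) p, fun U hU => ?_⟩
  have hU' : IsAffineOpen (p ⁻¹ᵁ U) := hU.preimage p
  have := Groth.QCohMod.finite_sections M hM.2 hU'
  let : Algebra Γ(X, U) Γ(PrinPart.nbhd f n, p ⁻¹ᵁ U) := (p.app U).hom.toAlgebra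
  have : Module.Finite Γ(X, U) Γ(PrinPart.nbhd f n, p ⁻¹ᵁ U) := p.finite_app U hU
  let : Module Γ(X, U) Γ(M, p ⁻¹ᵁ U) := Module.compHom _ (p.app U).hom
  have tow : IsScalarTower Γ(X, U) Γ(PrinPart.nbhd f n, p ⁻¹ᵁ U) Γ(M, p ⁻¹ᵁ U) :=
    IsScalarTower.of_compHom _ _ _
  have h : Module.Finite Γ(X, U) Γ(M, p ⁻¹ᵁ U) :=
    Module.Finite.trans Γ(PrinPart.nbhd f n, p ⁻¹ᵁ U) Γ(M, p ⁻¹ᵁ U)
  exact h

end Groth.PrinPartsAux
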