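import Groth.Agent.SchemeMorphisms.PrinParts.SymDer
import Groth.Agent.SymAlg.Univ
import Groth.Agent.RelSpecH.Gamma
import Groth.Agent.OmegaSheaf.Pull
import Groth.Agent.OmegaSheaf.IsoLocal

/-!
# The differentials of a vector bundle
-/

universe u

open CategoryTheory Limits AlgebraicGeometry Opposite TopologicalSpace TensorProduct
open Groth.OmegaSheaf
open Groth.QCohMod (res res_self res_app sectionsAlg bstr toB pullSecEquiv pullSecTensor pullSecTensor_tmul)

namespace Groth.PrinPartsAux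

variable {S : Scheme.{u}} {E : S.Modules} [E.IsQuasicoherent] {A : RelSpec.QCAlg S}
  {j : E ⟶ A.toModule} {Ω' : A.spec.Modules} {d : OmegaSh.Der A.π Ω'}
  {φ : (Scheme.Modules.pullback A.π).obj E ⟶ Ω'}

theorem app_bijective_vbundle (hA : RelSpec.IsSymAlg E A j) (hd : OmegaSh.IsUniversal d)
    (hφ : ∀ (U : S.Opens) (t : Γ(E, U)) (t' : Γ(A.spec, A.π ⁻¹ᵁ U)),
      A.gammaMap.app (op U) t' = j.app U t →
        φ.app (A.π ⁻¹ᵁ U) (OmegaSh.pullSect A.π E U t) = d.app (A.π ⁻¹ᵁ U) t')
    {U : S.Opens} (hU : IsAffineOpen U) : Function.Bijective (φ.app (A.π ⁻¹ᵁ U)) := by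
  let P := A.π ⁻¹ᵁ U
  have hP : IsAffineOpen P := hU.preimage A.π
  let c : Chart A.π := ⟨P, U, hP, hU, le_rfl⟩
  let _ := chartAlg A.π c.e
  let _ := sectionsAlg A.π (le_refl P)
  have := Groth.RelSpecH.isIso_gammaMap A
  have hγ : Function.Bijective (A.gammaMap.app (op U)).hom :=
    ConcreteCategory.bijective_of_isIso (A.gammaMap.app (op U))
  let γ : Γ(A.spec, P) ≃+* A.presheaf.obj (op U) := RingEquiv.ofBijective (A.gammaMap.app (op U)).hom hγ
  have hγs : ∀ r, γ (algebraMap Γ(S, U) Γ(A.spec, P) r) = bstr A U r := fun r => by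
    change (A.gammaMap.app (op U)).hom (A.π.appLE U P le_rfl r) = _
    rw [← Scheme.Hom.app_eq_appLE]
    exact congr(($(NatTrans.congr_app A.π_c_gammaMap (op U))).hom r)
  let L : SymmetricAlgebra Γ(S, U) Γ(E, U) ≃ₐ[Γ(S, U)] Γ(A.spec, P) :=
    AlgEquiv.ofBijective
      { γ.symm.toRingHom.comp (Groth.SymAlg.liftSec A j U) with
        commutes' := fun r => by
          change γ.symm (Groth.SymAlg.liftSec A j U (algebraMap Γ(S, U) _ r)) = _
          rw [Groth.SymAlg.liftSec_algebraMap, RingEquiv.symm_apply_eq]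
          exact (hγs r).symm }
      (γ.symm.bijective.comp (Groth.SymAlg.bijective_liftSec hA hU))
  have hL : ∀ t, (A.gammaMap.app (op U)) (L (SymmetricAlgebra.ι Γ(S, U) Γ(E, U) t)) = j.app U t := by
    intro t
    change γ (γ.symm (Groth.SymAlg.liftSec A j U (SymmetricAlgebra.ι Γ(S, U) Γ(E, U) t))) = _
    rw [RingEquiv.apply_symm_apply, Groth.SymAlg.liftSec_ι]
  let T := pullSecEquiv A.π E (le_refl P) hU hP
  let Φ := LinearMap.liftBaseChange Γ(A.spec, P)
    (((KaehlerDifferential.D Γ(S, U) Γ(A.spec, P)).toLinearMap.comp L.toLinearMap).comp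
      (SymmetricAlgebra.ι Γ(S, U) Γ(E, U)))
  have key : ∀ z, φ.app P (T z) = chartLift A.π c.e d (Φ z) := fun z => by
    induction z using TensorProduct.induction_on with
    | zero => simp only [map_zero]
    | add a b ha hb => simp only [map_add, ha, hb]
    | tmul b t =>
      change φ.app P (pullSecTensor A.π E (le_refl P) (b ⊗ₜ t)) = chartLift A.π c.e d (Φ (b ⊗ₜ t))
      rw [pullSecTensor_tmul, Scheme.Modules.Hom.app_smul, LinearMap.liftBaseChange_tmul,
        LinearMap.map_smul]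
      refine congrArg (b • ·) ?_
      refine ((congrArg (φ.app P) (res_self _ _)).trans (hφ U t _ (hL t))).trans ?_
      exact (chartLift_D A.π c.e d _).symm
  have hb : Function.Bijective (fun z => φ.app P (T z)) := by
    rw [funext key]
    exact (chartLift_bijective_of_isUniversal hd c).comp (bijective_symDiff L)
  exact (Function.Bijective.of_comp_iff _ T.bijective).mp hb

theorem isIso_vbundle (hA : RelSpec.IsSymAlg E A j) (hd : OmegaSh.IsUniversal d)
    (hφ : ∀ (U : S.Opens) (t : Γ(E, U)) (t' : Γ(A.spec, A.π ⁻¹ᵁ U)),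
      A.gammaMap.app (op U) t' = j.app U t →
        φ.app (A.π ⁻¹ᵁ U) (OmegaSh.pullSect A.π E U t) = d.app (A.π ⁻¹ᵁ U) t') :
    IsIso φ := by
  have := isQCoh_of_isUniversal hd
  have := Groth.QCohMod.isQCoh_pullback_obj A.π E
  refine isIso_of_affine_cover φ fun x => ?_
  obtain ⟨_, ⟨U, hU, rfl⟩, hxU, -⟩ :=
    S.isBasis_affineOpens.exists_subset_of_mem_open (Set.mem_univ (A.π x)) isOpen_univ
  exact ⟨A.π ⁻¹ᵁ U, hU.preimage A.π, hxU, app_bijective_vbundle hA hd hφ hU⟩

end Groth.PrinPartsAux
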