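import Groth.Agent.SchemeMorphisms.PrinParts.Gen
import Groth.Agent.PicAux.Pullback

/-!
# Global sections of the principal parts of an affine morphism of affine schemes
-/

universe u

open CategoryTheory Limits AlgebraicGeometry Opposite TopologicalSpace TensorProduct
open Groth.OmegaSheaf Groth.QCohMod

namespace Groth.PrinPartsAux

theorem exists_tensor_ringEquiv {A B A' B' : Type u} [CommRing A] [CommRing B] [Algebra A B]
    [CommRing A'] [CommRing B'] [Algebra A' B'] (a : A ≃+* A') (b : B ≃+* B')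
    (hab : ∀ x, b (algebraMap A B x) = algebraMap A' B' (a x)) :
    ∃ ρ : B ⊗[A] B ≃+* B' ⊗[A'] B', (∀ x y, ρ (x ⊗ₜ y) = b x ⊗ₜ b y) ∧
      ∀ z, ρ z ∈ KaehlerDifferential.ideal A' B' ↔ z ∈ KaehlerDifferential.ideal A B := by
  let F : B ⊗[A] B →+ B' ⊗[A'] B' := TensorProduct.liftAddHom
    { toFun := fun x => AddMonoidHom.mk' (fun y => b x ⊗ₜ b y) (fun y y' => by rw [map_add, tmul_add])
      map_zero' := AddMonoidHom.ext fun y => by simp
      map_add' := fun x x' => AddMonoidHom.ext fun y => by simp [add_tmul] }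
    (fun r x y => by
      change b (r • x) ⊗ₜ[A'] b y = b x ⊗ₜ[A'] b (r • y)
      rw [Algebra.smul_def, Algebra.smul_def, map_mul, map_mul, hab, ← Algebra.smul_def,
        ← Algebra.smul_def, smul_tmul])
  let G : B' ⊗[A'] B' →+ B ⊗[A] B := TensorProduct.liftAddHom
    { toFun := fun x => AddMonoidHom.mk' (fun y => b.symm x ⊗ₜ b.symm y)
        (fun y y' => by rw [map_add, tmul_add])
      map_zero' := AddMonoidHom.ext fun y => by simp
      map_add' := fun x x' => AddMonoidHom.ext fun y => by simp [add_tmul] }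
    (fun r x y => by
      have h : b.symm (algebraMap A' B' r) = algebraMap A B (a.symm r) := by
        rw [RingEquiv.symm_apply_eq, hab, RingEquiv.apply_symm_apply]
      change b.symm (r • x) ⊗ₜ[A] b.symm y = b.symm x ⊗ₜ[A] b.symm (r • y)
      rw [Algebra.smul_def, Algebra.smul_def, map_mul, map_mul, h, ← Algebra.smul_def,
        ← Algebra.smul_def, smul_tmul])
  have hFt : ∀ x y, F (x ⊗ₜ y) = b x ⊗ₜ b y := fun _ _ => rfl
  have hGt : ∀ x y, G (x ⊗ₜ y) = b.symm x ⊗ₜ b.symm y := fun _ _ => rfl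
  let ρ : B ⊗[A] B ≃+* B' ⊗[A'] B' :=
    { toFun := F
      invFun := G
      left_inv := fun z => by
        induction z using TensorProduct.induction_on with
        | zero => simp
        | tmul x y => simp [hFt, hGt]
        | add x y hx hy => simp [hx, hy]
      right_inv := fun z => by
        induction z using TensorProduct.induction_on with
        | zero => simp
        | tmul x y => simp [hFt, hGt]
        | add x y hx hy => simp [hx, hy]
      map_add' := map_add F
      map_mul' := fun z w => by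
        induction z using TensorProduct.induction_on with
        | zero => simp
        | tmul x y =>
          induction w using TensorProduct.induction_on with
          | zero => simp
          | tmul x' y' => simp [hFt, Algebra.TensorProduct.tmul_mul_tmul]
          | add p q hp hq => simp [mul_add, hp, hq]
        | add p q hp hq => simp [add_mul, hp, hq] }
  have hρ : ∀ x y, ρ (x ⊗ₜ y) = b x ⊗ₜ b y := hFt
  refine ⟨ρ, hρ, fun z => ?_⟩
  have h1 : ∀ z, Algebra.TensorProduct.lmul' (S := B') A' (ρ z) =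
      b (Algebra.TensorProduct.lmul' (S := B) A z) := fun z => by
    induction z using TensorProduct.induction_on with
    | zero => simp
    | tmul x y => simp [hρ]
    | add p q hp hq => simp [hp, hq]
  change Algebra.TensorProduct.lmul' (S := B') A' (ρ z) = 0 ↔ Algebra.TensorProduct.lmul' (S := B) A z = 0
  rw [h1, map_eq_zero_iff _ b.injective]

/-- The comparison `p_2^* O_X ⟶ O` on sections. -/
lemma pullUnit_pullSect {X Y : Scheme.{u}} (g : X ⟶ Y) (U : Y.Opens) (s : Γ(Y, U)) :
    (Groth.PicAux.pullUnit g).app (g ⁻¹ᵁ U)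
        (OmegaSh.pullSect g (Coh.structureModule Y) U (OmegaSh.strSect Y U s)) =
      OmegaSh.strSect X (g ⁻¹ᵁ U) (g.app U s) :=
  congr(($(Groth.PicAux.unit_pullUnit g)).app U (OmegaSh.strSect Y U s))

variable {X S : Scheme.{u}} (f : X ⟶ S) (n : ℕ)

/-- Sections of `P^n` as functions on the neighbourhood. -/
noncomputable def fnP (U : X.Opens) : Γ(PrinPart.P f n, U) →+ Γ(PrinPart.nbhd f n, nbW f n U) :=
  AddMonoidHom.mk' (fun s => OmegaSh.fnSect _ _
      ((Groth.PicAux.pullUnit (PrinPart.pr2 f n)).app (nbW f n U) (toPF f n _ s)))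
    fun s t => by
      refine (congrArg _ (map_add _ _ _)).trans (map_add _ _ _)

lemma fnP_bijective (U : X.Opens) : Function.Bijective (fnP f n U) := by
  have := Groth.PicAux.isIso_pullUnit (PrinPart.pr2 f n)
  exact ConcreteCategory.bijective_of_isIso
    ((Groth.PicAux.pullUnit (PrinPart.pr2 f n)).app (nbW f n U))

lemma fnP_smul_dn (U : X.Opens) (b c : Γ(X, U)) :
    fnP f n U (b • PrinPart.dn f n U c) = (PrinPart.pr1 f n).app U b *
      (PrinPart.pr2 f n).appLE U (nbW f n U) (PrinPart.preimage_pr1 f n U).le c := by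
  change OmegaSh.fnSect _ _ ((Groth.PicAux.pullUnit (PrinPart.pr2 f n)).app (nbW f n U)
    ((PrinPart.pr1 f n).app U b • toPF f n _ (PrinPart.dP f n _ U (OmegaSh.strSect X U c)))) = _
  rw [Scheme.Modules.Hom.app_smul]
  unfold toPF
  rw [PrinPart.dP_apply, ← res_app, pullUnit_pullSect]
  rfl

theorem affine_sections (A B : Type u) [CommRing A] [CommRing B] [Algebra A B] (n : ℕ)
    (ψ : TensorProduct A B B →+
      Γ(PrinPart.P (Spec.map (CommRingCat.ofHom (algebraMap A B))) n, (⊤ : (Spec (CommRingCat.of B)).Opens)))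
    (hψ : ∀ b b' : B, ψ (b ⊗ₜ[A] b') =
      (Scheme.ΓSpecIso (CommRingCat.of B)).inv b •
        PrinPart.dn (Spec.map (CommRingCat.ofHom (algebraMap A B))) n ⊤
          ((Scheme.ΓSpecIso (CommRingCat.of B)).inv b')) :
    Function.Surjective ψ ∧ ψ.ker = (KaehlerDifferential.ideal A B ^ (n + 1)).toAddSubgroup := by
  let g : Spec (CommRingCat.of B) ⟶ Spec (CommRingCat.of A) :=
    Spec.map (CommRingCat.ofHom (algebraMap A B))
  have e : (⊤ : (Spec (CommRingCat.of B)).Opens) ≤ g ⁻¹ᵁ ⊤ := le_rfl
  have hT : IsAffineOpen (⊤ : (Spec (CommRingCat.of B)).Opens) := isAffineOpen_top _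
  have hT' : IsAffineOpen (⊤ : (Spec (CommRingCat.of A)).Opens) := isAffineOpen_top _
  let _ := chartAlg g e
  let a : A ≃+* Γ(Spec (CommRingCat.of A), ⊤) :=
    (Scheme.ΓSpecIso (CommRingCat.of A)).symm.commRingCatIsoToRingEquiv
  let b : B ≃+* Γ(Spec (CommRingCat.of B), ⊤) :=
    (Scheme.ΓSpecIso (CommRingCat.of B)).symm.commRingCatIsoToRingEquiv
  obtain ⟨ρ, hρ, hρI⟩ := exists_tensor_ringEquiv a b fun x => by
    have h := congr($(Scheme.ΓSpecIso_inv_naturality (CommRingCat.ofHom (algebraMap A B))) x)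
    refine h.trans ?_
    change g.appTop _ = g.appLE ⊤ ⊤ e _
    rw [Scheme.Hom.appTop, Scheme.Hom.app_eq_appLE]
    rfl
  let q := π g n e hT' hT
  have key : ∀ z, fnP g n ⊤ (ψ z) = q (ρ z) := fun z => by
    induction z using TensorProduct.induction_on with
    | zero => exact ((congrArg (fnP g n ⊤) (map_zero ψ)).trans (map_zero _)).trans ((congrArg q (map_zero ρ)).trans (map_zero q)).symm
    | tmul x y =>
      rw [hψ, fnP_smul_dn, hρ]
      exact (π_tmul g n e hT' hT _ _).symm
    | add x y hx hy =>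
      refine (congrArg (fnP g n ⊤) (map_add ψ x y)).trans ((map_add _ _ _).trans ?_)
      rw [hx, hy, map_add ρ, map_add q]
  have hI : ∀ z, ρ z ∈ KaehlerDifferential.ideal Γ(Spec (CommRingCat.of A), ⊤)
      Γ(Spec (CommRingCat.of B), ⊤) ^ (n + 1) ↔ z ∈ KaehlerDifferential.ideal A B ^ (n + 1) := by
    have h : (KaehlerDifferential.ideal A B).map ρ = KaehlerDifferential.ideal _ _ := by
      rw [← Ideal.comap_symm]
      ext w
      rw [Ideal.mem_comap, ← hρI (ρ.symm w), RingEquiv.apply_symm_apply]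
    intro z
    rw [← h, ← Ideal.map_pow, ← Ideal.comap_symm, Ideal.mem_comap, RingEquiv.symm_apply_apply]
  refine ⟨fun s => ?_, ?_⟩
  · obtain ⟨w, hw⟩ := π_surjective g n e hT' hT (fnP g n ⊤ s)
    refine ⟨ρ.symm w, (fnP_bijective g n ⊤).1 ?_⟩
    rw [key, RingEquiv.apply_symm_apply]
    exact hw
  · ext z
    rw [AddMonoidHom.mem_ker, Submodule.mem_toAddSubgroup, ← hI,
      ← π_eq_zero_iff g n e hT' hT, ← map_eq_zero_iff _ (fnP_bijective g n ⊤).1, key]

end Groth.PrinPartsAux
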