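import Groth.Prelude.Def_OmegaPn
import Groth.Agent.QCohMod.Coherent
import Groth.Agent.QCohMod.PullbackQCoh
import Groth.Agent.OmegaSheaf.IdealMod
import Groth.Agent.Flatmor4.ThickFT

/-!
# Finiteness of the graded pieces
-/

universe u

open CategoryTheory Limits AlgebraicGeometry

namespace Groth.PrinPartsAux

theorem isCoh_grMod {Y X : Scheme.{u}} (f : Y ⟶ X) [IsClosedImmersion f]
    [LocallyOfFinitePresentation f] (n : ℕ) : Coh.IsCoh (PrinPart.grMod f n) := by
  have hft : CohB1.IsFT (ClSub.idealMod (f.ker ^ n)) :=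
    (Groth.QCohMod.isFT_iff _).2 fun U hU => by
      have hfg : ((f.ker ^ n).ideal ⟨U, hU⟩).FG := (Groth.Flatmor4.ker_fg_of_lfp f ⟨U, hU⟩).pow
      have : Module.Finite Γ(X, U) ((f.ker ^ n).ideal ⟨U, hU⟩) := Module.Finite.iff_fg.2 hfg
      exact Module.Finite.equiv (Groth.OmegaSheaf.idealSecEquiv (f.ker ^ n) ⟨U, hU⟩).symm
  exact ⟨Groth.QCohMod.isQCoh_pullback_obj f _, Groth.QCohMod.isFT_pullback f _ hft⟩

end Groth.PrinPartsAux
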