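import Groth.Agent.SchemeMorphisms.PrinParts.Rows
import Groth.Agent.OmegaSheaf.Universal
import Groth.Agent.OmegaSheaf.Receptacle

/-!
# `P^1 = O ⊕ Ω`
-/

universe u

open CategoryTheory Limits AlgebraicGeometry Opposite TopologicalSpace TensorProduct
open Groth.OmegaSheaf Groth.QCohMod

namespace Groth.PrinPartsAux

variable {X S : Scheme.{u}} (f : X ⟶ S) [QuasiSeparated f]

/-- `O ⊕ Ω`. -/
noncomputable abbrev OOmega : X.Modules := Coh.structureModule X ⨿ Omega.sheaf f

/-- The sections `(s, ds)`. -/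
noncomputable def oneOp (U : X.Opens) : Γ(Coh.structureModule X, U) →+ Γ(OOmega f, U) :=
  ((coprod.inl : Coh.structureModule X ⟶ OOmega f).app U).hom +
    (((coprod.inr : Omega.sheaf f ⟶ OOmega f).app U).hom.comp
      (((OmegaSh.dOmega f).app U).comp (OmegaSh.fnSect X U)))

lemma oneOp_apply (U : X.Opens) (t : Γ(Coh.structureModule X, U)) :
    oneOp f U t = (coprod.inl : Coh.structureModule X ⟶ OOmega f).app U t +
      (coprod.inr : Omega.sheaf f ⟶ OOmega f).app U ((OmegaSh.dOmega f).app U (OmegaSh.fnSect X U t)) :=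
  rfl

/-- The operator `s ↦ (s, ds)`. -/
noncomputable def oneOpHom : (Coh.structureModule X).presheaf ⟶ (OOmega f).presheaf where
  app U := AddCommGrpCat.ofHom (oneOp f U.unop)
  naturality U V i := by
    ext t
    change oneOp f V.unop (res (Coh.structureModule X) (leOfHom i.unop) t) =
      res (OOmega f) (leOfHom i.unop) (oneOp f U.unop t)
    rw [oneOp_apply, oneOp_apply, map_add, res_app, res_app, Groth.OmegaSheaf.res_der]
    rfl

lemma oneOp_smul (U : X.Opens) (a : Γ(X, U)) (t : Γ(Coh.structureModule X, U)) :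
    oneOp f U (a • t) = a • oneOp f U t +
      OmegaSh.fnSect X U t • (coprod.inr : Omega.sheaf f ⟶ OOmega f).app U ((OmegaSh.dOmega f).app U a) := by
  rw [oneOp_apply, oneOp_apply, Scheme.Modules.Hom.app_smul,
    show OmegaSh.fnSect X U (a • t) = a * OmegaSh.fnSect X U t from rfl, der_mul, map_add,
    Scheme.Modules.Hom.app_smul, Scheme.Modules.Hom.app_smul, smul_add, add_assoc]

lemma isDiffOpLE_oneOpHom :
    PrinPart.IsDiffOpLE f (Coh.structureModule X) (OOmega f) 1 (oneOpHom f) := by
  rw [isDiffOpLE_iff_chartOp]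
  have hl : IsSemilin f (oneOpHom f) := fun V s U hU t => by
    change oneOp f U (_ • t) = _
    rw [oneOp_smul]
    have h : (OmegaSh.dOmega f).app U (X.presheaf.map (homOfLE hU).op (f.app V s)) = 0 :=
      der_appLE (OmegaSh.dOmega f) hU s
    rw [h, map_zero, smul_zero, add_zero]
    rfl
  refine ⟨hl, fun U V e _ _ => ?_⟩
  let _ := chartAlg f e
  let _ := chartModule f e (Coh.structureModule X)
  let _ := chartModule f e (OOmega f)
  have := chart_tower f e (Coh.structureModule X)
  have := chart_tower f e (OOmega f)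
  refine (Groth.DiffOps.isDiffOpLE_succ_iff 0 _).mpr fun b => ?_
  refine (Groth.DiffOps.isDiffOpLE_zero_iff _).mpr fun c t => ?_
  rw [Groth.DiffOps.commutator_apply, Groth.DiffOps.commutator_apply]
  change oneOp f U (b • c • t) - b • oneOp f U (c • t) = c • (oneOp f U (b • t) - b • oneOp f U t)
  rw [oneOp_smul f U b (c • t), oneOp_smul f U b t, add_sub_cancel_left, add_sub_cancel_left,
    show OmegaSh.fnSect X U (c • t) = c * OmegaSh.fnSect X U t from rfl, mul_smul]

theorem isIso_desc (e : Coh.structureModule X ⟶ PrinPart.P f 1)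
    (he : ∀ (U : X.Opens) (s : Γ(X, U)), e.app U (OmegaSh.strSect X U s) = s • PrinPart.dn f 1 U 1)
    (ι : Omega.sheaf f ⟶ PrinPart.P f 1)
    (hι : ∀ (U : X.Opens) (s : Γ(X, U)),
      ι.app U ((OmegaSh.dOmega f).app U s) = PrinPart.dn f 1 U s - s • PrinPart.dn f 1 U 1) :
    IsIso (coprod.desc e ι) := by
  obtain ⟨u, hu⟩ := isDiffOpLE_oneOpHom f
  have hu' : ∀ (U : X.Opens) (s : Γ(X, U)),
      u.app U (PrinPart.dn f 1 U s) = oneOp f U (OmegaSh.strSect X U s) :=
    fun U s => (hu U (OmegaSh.strSect X U s)).symm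
  have hu1 : ∀ U : X.Opens, u.app U (PrinPart.dn f 1 U 1) =
      (coprod.inl : Coh.structureModule X ⟶ OOmega f).app U (OmegaSh.strSect X U 1) := fun U => by
    rw [hu', oneOp_apply]
    have h1 : (OmegaSh.dOmega f).app U (1 : Γ(X, U)) = 0 := by
      have h := der_mul (OmegaSh.dOmega f) U 1 1
      rw [mul_one, one_smul] at h
      exact left_eq_add.mp h
    rw [show OmegaSh.fnSect X U (OmegaSh.strSect X U 1) = 1 from rfl, h1, map_zero, add_zero]
  refine ⟨u, coprod.hom_ext ?_ ?_, ?_⟩
  · rw [coprod.inl_desc_assoc, Category.comp_id]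
    refine Groth.CohTwo.hom_ext_app fun U t => ?_
    change u.app U (e.app U (OmegaSh.strSect X U (OmegaSh.fnSect X U t))) = _
    rw [he, Scheme.Modules.Hom.app_smul, hu1, ← Scheme.Modules.Hom.app_smul,
      ← OmegaSh.strSect_mul, mul_one]
    rfl
  · rw [coprod.inr_desc_assoc, Category.comp_id]
    refine hom_ext_d f fun c s => ?_
    change u.app c.U (ι.app c.U _) = _
    rw [hι, map_sub, Scheme.Modules.Hom.app_smul, hu1, hu', oneOp_apply,
      ← Scheme.Modules.Hom.app_smul, ← OmegaSh.strSect_mul, mul_one]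
    exact add_sub_cancel_left _ _
  · refine hom_ext' f 1 _ _ _ fun U t => ?_
    change (coprod.desc e ι).app U (u.app U (PrinPart.dn f 1 U (OmegaSh.fnSect X U t))) =
      PrinPart.dP f 1 _ U t
    rw [hu', oneOp_apply, map_add]
    change (coprod.inl ≫ coprod.desc e ι).app U _ + (coprod.inr ≫ coprod.desc e ι).app U _ = _
    rw [coprod.inl_desc, coprod.inr_desc]
    change e.app U (OmegaSh.strSect X U (OmegaSh.fnSect X U t)) +
      ι.app U ((OmegaSh.dOmega f).app U (OmegaSh.fnSect X U t)) = _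
    rw [he, hι]
    exact add_sub_cancel _ _

end Groth.PrinPartsAux
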