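import Groth.Agent.SchemeMorphisms.PrinParts.Gen
import Groth.Agent.PP.DiffOp

/-!
# Differential operators on affine charts
-/

universe u

open CategoryTheory Limits AlgebraicGeometry Opposite TopologicalSpace TensorProduct
open Groth.OmegaSheaf Groth.QCohMod

namespace Groth.PrinPartsAux

section Ring

variable {A B : Type u} [CommRing A] [CommRing B] [Algebra A B]
  {M N : Type u} [AddCommGroup M] [Module A M] [Module B M] [IsScalarTower A B M]
  [AddCommGroup N] [Module A N] [Module B N] [IsScalarTower A B N]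

lemma isDiffOpLE_of_bilinearize_eq_zero (D : M →ₗ[A] N) :
    ∀ (j : ℕ) (x : B ⊗[A] B),
      (∀ y ∈ KaehlerDifferential.ideal A B ^ (j + 1), Groth.PP.bilinearize D (x * y) = 0) →
        Diff16.IsDiffOpLE A B M N j (Groth.PP.bilinearize D x) := by
  intro j
  induction j with
  | zero =>
    intro x h
    rw [Groth.DiffOps.isDiffOpLE_zero_iff]
    intro b m
    have h1 := h (Groth.DiffOps.del A b) (by
      rw [zero_add, pow_one]; exact KaehlerDifferential.one_smul_sub_smul_one_mem_ideal A b)
    rw [Groth.PP.bilinearize_mul_del] at h1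
    have h2 := LinearMap.congr_fun h1 m
    rw [Groth.DiffOps.commutator_apply, LinearMap.zero_apply, sub_eq_zero] at h2
    exact h2
  | succ j ih =>
    intro x h
    rw [Groth.DiffOps.isDiffOpLE_succ_iff]
    intro b
    rw [← Groth.PP.bilinearize_mul_del]
    refine ih _ fun y hy => ?_
    rw [mul_assoc]
    refine h _ ?_
    rw [pow_succ']
    exact Ideal.mul_mem_mul (KaehlerDifferential.one_smul_sub_smul_one_mem_ideal A b) hy

lemma isDiffOpLE_iff_bilinearize (n : ℕ) (D : M →ₗ[A] N) :
    Diff16.IsDiffOpLE A B M N n D ↔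
      ∀ y ∈ KaehlerDifferential.ideal A B ^ (n + 1), Groth.PP.bilinearize D y = 0 := by
  have h1 : Groth.PP.bilinearize D (1 : B ⊗[A] B) = D := by
    refine LinearMap.ext fun m => ?_
    rw [Algebra.TensorProduct.one_def, Groth.PP.bilinearize_tmul, one_smul, one_smul]
  constructor
  · intro h y hy
    have h2 := Groth.PP.bilinearize_mul_eq_zero D n 1 (Groth.PP.isDiffOpLE_bilinearize h 1) y hy
    rwa [one_mul] at h2
  · intro h
    have h2 := isDiffOpLE_of_bilinearize_eq_zero D n 1 (fun y hy => by rw [one_mul]; exact h y hy)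
    rwa [h1] at h2

end Ring

variable {X S : Scheme.{u}} (f : X ⟶ S) {F G H : X.Modules}

/-- Linearity for the functions pulled back from the base. -/
def IsSemilin (D : F.presheaf ⟶ G.presheaf) : Prop :=
  ∀ (V : S.Opens) (s : Γ(S, V)) (U : X.Opens) (hU : U ≤ f ⁻¹ᵁ V) (t : Γ(F, U)),
    D.app (op U) (X.presheaf.map (homOfLE hU).op (f.app V s) • t) =
      X.presheaf.map (homOfLE hU).op (f.app V s) • D.app (op U) t

lemma res_D (D : F.presheaf ⟶ G.presheaf) {U V : X.Opens} (h : V ≤ U) (t : Γ(F, U)) :
    res G h (D.app (op U) t) = D.app (op V) (res F h t) :=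
  (congr($(D.naturality (homOfLE h).op) t)).symm

section Chart

variable (D : F.presheaf ⟶ G.presheaf) (hD : IsSemilin f D) {U : X.Opens} {V : S.Opens}
  (e : U ≤ f ⁻¹ᵁ V)

lemma chart_tower (M : X.Modules) :
    letI := chartAlg f e
    letI := chartModule f e M
    IsScalarTower Γ(S, V) Γ(X, U) Γ(M, U) :=
  letI := chartAlg f e
  letI := chartModule f e M
  IsScalarTower.of_algebraMap_smul fun _ _ => rfl

/-- An operator on a chart. -/
noncomputable def chartMap :
    letI := chartModule f e F
    letI := chartModule f e G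
    Γ(F, U) →ₗ[Γ(S, V)] Γ(G, U) :=
  letI := chartModule f e F
  letI := chartModule f e G
  { toFun := fun t => D.app (op U) t
    map_add' := map_add (D.app (op U)).hom
    map_smul' := fun s t => hD V s U e t }

/-- Differential operators of order `≤ n` on one chart. -/
def ChartOp (n : ℕ) : Prop :=
  letI := chartAlg f e
  letI := chartModule f e F
  letI := chartModule f e G
  haveI := chart_tower f e F
  haveI := chart_tower f e G
  Diff16.IsDiffOpLE Γ(S, V) Γ(X, U) Γ(F, U) Γ(G, U) n (chartMap f D hD e)

end Chart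

section List

variable (n : ℕ) (D : F.presheaf ⟶ G.presheaf) {U : X.Opens}

/-- `∑ p₁♯ b · p₂♯ c`. -/
noncomputable def val (L : List (Γ(X, U) × Γ(X, U))) : Γ(PrinPart.nbhd f n, nbW f n U) :=
  (L.map fun p => (PrinPart.pr1 f n).app U p.1 *
    (PrinPart.pr2 f n).appLE U (nbW f n U) (PrinPart.preimage_pr1 f n U).le p.2).sum

/-- `∑ b • D (c • t)`. -/
noncomputable def opv (L : List (Γ(X, U) × Γ(X, U))) (t : Γ(F, U)) : Γ(G, U) :=
  (L.map fun p => p.1 • D.app (op U) (p.2 • t)).sum

lemma opv_zero_right (L : List (Γ(X, U) × Γ(X, U))) : opv D L 0 = 0 := by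
  induction L with
  | nil => rfl
  | cons p L ih =>
    simp only [opv, List.map_cons, List.sum_cons] at ih ⊢
    rw [ih, smul_zero, map_zero, smul_zero, add_zero]

lemma opv_add_right (L : List (Γ(X, U) × Γ(X, U))) (t t' : Γ(F, U)) :
    opv D L (t + t') = opv D L t + opv D L t' := by
  induction L with
  | nil => exact (add_zero _).symm
  | cons p L ih =>
    simp only [opv, List.map_cons, List.sum_cons] at ih ⊢
    rw [ih, smul_add, map_add, smul_add]
    exact add_add_add_comm _ _ _ _

lemma val_append (L L' : List (Γ(X, U) × Γ(X, U))) : val f n (L ++ L') = val f n L + val f n L' := by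
  simp only [val, List.map_append, List.sum_append]

lemma opv_append (L L' : List (Γ(X, U) × Γ(X, U))) (t : Γ(F, U)) :
    opv D (L ++ L') t = opv D L t + opv D L' t := by
  simp only [opv, List.map_append, List.sum_append]

/-- The negative. -/
noncomputable def negL (L : List (Γ(X, U) × Γ(X, U))) : List (Γ(X, U) × Γ(X, U)) :=
  L.map fun p => (-p.1, p.2)

lemma val_negL (L : List (Γ(X, U) × Γ(X, U))) : val f n (negL L) = -val f n L := by
  induction L with
  | nil => exact neg_zero.symm
  | cons p L ih =>
    simp only [val, negL, List.map_cons, List.sum_cons] at ih ⊢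
    rw [ih, map_neg, neg_mul, neg_add]

lemma opv_negL (L : List (Γ(X, U) × Γ(X, U))) (t : Γ(F, U)) : opv D (negL L) t = -opv D L t := by
  induction L with
  | nil => exact neg_zero.symm
  | cons p L ih =>
    simp only [opv, negL, List.map_cons, List.sum_cons] at ih ⊢
    rw [ih, neg_smul, neg_add]

variable {U' : X.Opens} (h : U' ≤ U)

/-- Restriction. -/
noncomputable def resL (L : List (Γ(X, U) × Γ(X, U))) : List (Γ(X, U') × Γ(X, U')) :=
  L.map fun p => (resFun X h p.1, resFun X h p.2)

lemma res_val (L : List (Γ(X, U) × Γ(X, U))) :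
    resFun (PrinPart.nbhd f n) ((PrinPart.pr1 f n).preimage_mono h) (val f n L) =
      val f n (resL h L) := by
  induction L with
  | nil => exact map_zero _
  | cons p L ih =>
    simp only [val, resL, List.map_cons, List.sum_cons] at ih ⊢
    rw [map_add, ih, map_mul]
    congr 2
    · exact congr($((PrinPart.pr1 f n).naturality (homOfLE h).op) p.1).symm
    · change ((PrinPart.pr2 f n).appLE U (nbW f n U) _ ≫ (PrinPart.nbhd f n).presheaf.map _) p.2 =
        (X.presheaf.map (homOfLE h).op ≫ (PrinPart.pr2 f n).appLE U' (nbW f n U') _) p.2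
      rw [Scheme.Hom.appLE_map, Scheme.Hom.map_appLE]

lemma res_opv (L : List (Γ(X, U) × Γ(X, U))) (t : Γ(F, U)) :
    res G h (opv D L t) = opv D (resL h L) (res F h t) := by
  induction L with
  | nil => exact map_zero _
  | cons p L ih =>
    simp only [opv, resL, List.map_cons, List.sum_cons] at ih ⊢
    rw [map_add, ih, res_smul, res_D, res_smul]

lemma val_smul_dP (L : List (Γ(X, U) × Γ(X, U))) (t : Γ(F, U)) :
    ofPF f n F (val f n L • toPF f n F (PrinPart.dP f n F U t)) = opv (PrinPart.dPHom f n F) L t := by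
  induction L with
  | nil => exact zero_smul Γ(PrinPart.nbhd f n, nbW f n U) (toPF f n F (PrinPart.dP f n F U t))
  | cons p L ih =>
    simp only [val, opv, List.map_cons, List.sum_cons] at ih ⊢
    rw [add_smul, ← ih]
    refine Eq.trans ?_ (congrArg (· + _) (smul_dP f n F U p.1 p.2 t).symm)
    rfl

lemma opv_comp (u : G ⟶ H) (D' : F.presheaf ⟶ H.presheaf)
    (hu : ∀ (U : X.Opens) (t : Γ(F, U)), D'.app (op U) t = u.app U (D.app (op U) t))
    (L : List (Γ(X, U) × Γ(X, U))) (t : Γ(F, U)) :
    opv D' L t = u.app U (opv D L t) := by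
  induction L with
  | nil => exact (map_zero _).symm
  | cons p L ih =>
    simp only [opv, List.map_cons, List.sum_cons] at ih ⊢
    rw [map_add, ← ih, hu, Scheme.Modules.Hom.app_smul]

end List

section ChartList

variable (n : ℕ) (D : F.presheaf ⟶ G.presheaf) {U : X.Opens} {V : S.Opens}
  (e : U ≤ f ⁻¹ᵁ V) (hV : IsAffineOpen V) (hU : IsAffineOpen U)

/-- `∑ b ⊗ c`. -/
noncomputable def toTens (L : List (Γ(X, U) × Γ(X, U))) :
    letI := chartAlg f e
    Γ(X, U) ⊗[Γ(S, V)] Γ(X, U) :=
  letI := chartAlg f e
  (L.map fun p => p.1 ⊗ₜ p.2).sum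

lemma π_toTens (L : List (Γ(X, U) × Γ(X, U))) :
    π f n e hV hU (toTens f e L) = val f n L := by
  letI := chartAlg f e
  induction L with
  | nil => exact map_zero _
  | cons p L ih =>
    simp only [val, toTens, List.map_cons, List.sum_cons] at ih ⊢
    rw [map_add, ih, π_tmul]

lemma exists_toTens :
    letI := chartAlg f e
    ∀ z : Γ(X, U) ⊗[Γ(S, V)] Γ(X, U), ∃ L, toTens f e L = z := by
  letI := chartAlg f e
  intro z
  induction z using TensorProduct.induction_on with
  | zero => exact ⟨[], rfl⟩
  | tmul b c => exact ⟨[(b, c)], by simp [toTens]⟩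
  | add a b ha hb =>
    obtain ⟨La, rfl⟩ := ha
    obtain ⟨Lb, rfl⟩ := hb
    exact ⟨La ++ Lb, by simp [toTens]⟩

lemma bilinearize_toTens (hD : IsSemilin f D) (L : List (Γ(X, U) × Γ(X, U))) (t : Γ(F, U)) :
    letI := chartAlg f e
    letI := chartModule f e F
    letI := chartModule f e G
    haveI := chart_tower f e F
    haveI := chart_tower f e G
    Groth.PP.bilinearize (chartMap f D hD e) (toTens f e L) t = opv D L t := by
  letI := chartAlg f e
  letI := chartModule f e F
  letI := chartModule f e G
  haveI := chart_tower f e F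
  haveI := chart_tower f e G
  induction L with
  | nil =>
    change Groth.PP.bilinearize (chartMap f D hD e) 0 t = 0
    rw [map_zero]; rfl
  | cons p L ih =>
    simp only [opv, toTens, List.map_cons, List.sum_cons] at ih ⊢
    rw [map_add, LinearMap.add_apply, ih, Groth.PP.bilinearize_tmul]
    rfl

include hV hU in
theorem chartOp_iff (hD : IsSemilin f D) :
    ChartOp f D hD e n ↔
      ∀ L : List (Γ(X, U) × Γ(X, U)), val f n L = 0 → ∀ t : Γ(F, U), opv D L t = 0 := by
  letI := chartAlg f e
  letI := chartModule f e F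
  letI := chartModule f e G
  haveI := chart_tower f e F
  haveI := chart_tower f e G
  unfold ChartOp
  rw [isDiffOpLE_iff_bilinearize]
  constructor
  · intro h L hL t
    rw [← π_toTens f n e hV hU, π_eq_zero_iff] at hL
    rw [← bilinearize_toTens f D e hD, h _ hL]
    rfl
  · intro h y hy
    obtain ⟨L, rfl⟩ := exists_toTens f e y
    rw [← π_eq_zero_iff f n e hV hU, π_toTens] at hy
    refine LinearMap.ext fun t => ?_
    rw [bilinearize_toTens, h L hy t]
    rfl

end ChartList

end Groth.PrinPartsAux
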