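import Groth.Prelude.Def_OmegaPn
import Groth.Agent.OmegaSheaf.Chart

/-!
# Affine charts of the infinitesimal neighbourhoods of the diagonal

For `U ⊆ f ⁻¹ V` affine, the functions on the part of `X^{(n)}_Δ` over `U` form
`(B ⊗[A] B) / I ^ (n + 1)`.
-/

universe u

open CategoryTheory Limits AlgebraicGeometry Opposite TopologicalSpace TensorProduct
open Groth.OmegaSheaf

namespace Groth.PrinPartsAux

variable {X S : Scheme.{u}} (f : X ⟶ S) (n : ℕ) {U : X.Opens} {V : S.Opens} (e : U ≤ f ⁻¹ᵁ V)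
  (hV : IsAffineOpen V) (hU : IsAffineOpen U)

include hV hU e in
lemma diagNbhd_le_coborderRange : OmegaSh.diagNbhd f U ≤ (pullback.diagonal f).coborderRange := by
  have : IsAffine U := hU
  have : IsAffine (OmegaSh.diagNbhd f U).toScheme := isAffineOpen_diagNbhd f hV hU e
  let d := (pullback.diagonal f).resLE (OmegaSh.diagNbhd f U) U (OmegaSh.le_preimage_diagNbhd f U)
  let p := (pullback.fst f f).resLE U (OmegaSh.diagNbhd f U) inf_le_left
  have hdp : d ≫ p = 𝟙 _ := by
    rw [Scheme.Hom.resLE_comp_resLE, ← cancel_mono U.ι, Scheme.Hom.resLE_comp_ι,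
      pullback.diagonal_fst, Category.id_comp, Category.comp_id]
  have : IsClosedImmersion (d ≫ p) := by rw [hdp]; infer_instance
  have hd : IsClosedImmersion d := IsClosedImmersion.of_comp d p
  have hr : Set.range d = (OmegaSh.diagNbhd f U).ι ⁻¹' Set.range (pullback.diagonal f) := by
    ext z
    constructor
    · rintro ⟨w, rfl⟩
      refine ⟨U.ι w, ?_⟩
      rw [← Scheme.Hom.comp_apply, ← Scheme.Hom.comp_apply, Scheme.Hom.resLE_comp_ι]
    · rintro ⟨x, hx⟩
      have hxU : x ∈ U := by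
        rw [← diagonal_preimage_diagNbhd f (U := U)]
        change pullback.diagonal f x ∈ OmegaSh.diagNbhd f U
        rw [hx]; exact z.2
      refine ⟨⟨x, hxU⟩, (OmegaSh.diagNbhd f U).ι.isOpenEmbedding.injective ?_⟩
      rw [← Scheme.Hom.comp_apply, Scheme.Hom.resLE_comp_ι, Scheme.Hom.comp_apply]
      exact hx
  intro z hz
  change z ∈ coborder (Set.range (pullback.diagonal f))
  rw [coborder_eq_union_closure_compl]
  by_cases hc : z ∈ closure (Set.range (pullback.diagonal f))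
  · left
    have h1 : (⟨z, hz⟩ : (OmegaSh.diagNbhd f U).toScheme) ∈
        (OmegaSh.diagNbhd f U).ι ⁻¹' closure (Set.range (pullback.diagonal f)) := hc
    rw [(OmegaSh.diagNbhd f U).ι.isOpenEmbedding.isOpenMap.preimage_closure_eq_closure_preimage
      (OmegaSh.diagNbhd f U).ι.continuous, ← hr, d.isClosedEmbedding.isClosed_range.closure_eq, hr] at h1
    exact h1
  · exact Or.inr hc

/-- The part of `X^{(n)}_Δ` over an open `U` of `X`. -/
noncomputable abbrev nbW (U : X.Opens) : (PrinPart.nbhd f n).Opens := PrinPart.pr1 f n ⁻¹ᵁ U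

lemma nbW_le_preimage_diagNbhd : nbW f n U ≤ PrinPart.nbhdι f n ⁻¹ᵁ OmegaSh.diagNbhd f U := fun z hz =>
  ⟨hz, (PrinPart.preimage_pr1 f n U).le hz⟩

lemma preimage_diagNbhd_le_nbW : PrinPart.nbhdι f n ⁻¹ᵁ OmegaSh.diagNbhd f U ≤ nbW f n U :=
  fun _ hz => hz.1

/-- `Γ(U ×_V U) → Γ(X^{(n)}_Δ|_U)`. -/
noncomputable def ω : Γ(pullback f f, OmegaSh.diagNbhd f U) →+* Γ(PrinPart.nbhd f n, nbW f n U) :=
  ((PrinPart.nbhdι f n).appLE (OmegaSh.diagNbhd f U) (nbW f n U) (nbW_le_preimage_diagNbhd f n)).hom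

lemma ω_fst (b : Γ(X, U)) :
    ω f n ((pullback.fst f f).appLE U (OmegaSh.diagNbhd f U) inf_le_left b) =
      (PrinPart.pr1 f n).app U b := by
  rw [ω, ← CommRingCat.comp_apply, Scheme.Hom.appLE_comp_appLE, Scheme.Hom.app_eq_appLE]
  rfl

lemma ω_snd (b : Γ(X, U)) :
    ω f n ((pullback.snd f f).appLE U (OmegaSh.diagNbhd f U) inf_le_right b) =
      (PrinPart.pr2 f n).appLE U (nbW f n U) (PrinPart.preimage_pr1 f n U).le b := by
  rw [ω, ← CommRingCat.comp_apply, Scheme.Hom.appLE_comp_appLE]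
  rfl

include hV hU e in
lemma isAffineOpen_preimage_diagNbhd :
    IsAffineOpen ((pullback.diagonal f).coborderRange.ι ⁻¹ᵁ OmegaSh.diagNbhd f U) := by
  rw [← (pullback.diagonal f).coborderRange.ι.isAffineOpen_iff_of_isOpenImmersion,
    Scheme.Hom.image_preimage_eq_opensRange_inf, Scheme.Opens.opensRange_ι,
    inf_eq_right.mpr (diagNbhd_le_coborderRange f e hV hU)]
  exact isAffineOpen_diagNbhd f hV hU e

include hV hU e in
lemma isAffineOpen_nbW : IsAffineOpen (nbW f n U) := by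
  have : IsClosedImmersion (PrinPart.infNbhdι (PrinPart.diagCl f) n) :=
    inferInstanceAs (IsClosedImmersion ((PrinPart.diagCl f).ker ^ (n + 1)).subschemeι)
  have h := (isAffineOpen_preimage_diagNbhd f e hV hU).preimage (PrinPart.infNbhdι (PrinPart.diagCl f) n)
  rwa [show nbW f n U = PrinPart.infNbhdι (PrinPart.diagCl f) n ⁻¹ᵁ
    ((pullback.diagonal f).coborderRange.ι ⁻¹ᵁ OmegaSh.diagNbhd f U) from
      le_antisymm (nbW_le_preimage_diagNbhd f n) (preimage_diagNbhd_le_nbW f n)]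

include hV hU e in
lemma ω_props :
    Function.Surjective (ω f n (U := U)) ∧
      RingHom.ker (ω f n (U := U)) = RingHom.ker (δ f (U := U)) ^ (n + 1) := by
  let D := OmegaSh.diagNbhd f U
  let c := (pullback.diagonal f).coborderRange.ι
  let D' : (pullback.diagonal f).coborderRange.toScheme.affineOpens :=
    ⟨c ⁻¹ᵁ D, isAffineOpen_preimage_diagNbhd f e hV hU⟩
  have hle : D ≤ c.opensRange := by
    rw [Scheme.Opens.opensRange_ι]; exact diagNbhd_le_coborderRange f e hV hU
  have hc : Function.Bijective (c.app D) := by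
    have := c.isIso_app D hle
    exact ConcreteCategory.bijective_of_isIso (c.app D)
  let i := PrinPart.infNbhdι (PrinPart.diagCl f) n
  have hr : IsIso ((PrinPart.nbhd f n).presheaf.map
      (homOfLE (nbW_le_preimage_diagNbhd f n (U := U))).op) := by
    have : IsIso (homOfLE (nbW_le_preimage_diagNbhd f n (U := U))) :=
      ⟨homOfLE (preimage_diagNbhd_le_nbW f n), Subsingleton.elim _ _, Subsingleton.elim _ _⟩
    infer_instance
  have hω : ∀ x, ω f n (U := U) x = (PrinPart.nbhd f n).presheaf.map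
      (homOfLE (nbW_le_preimage_diagNbhd f n (U := U))).op (i.app (c ⁻¹ᵁ D) (c.app D x)) := fun _ => rfl
  have hrb := ConcreteCategory.bijective_of_isIso ((PrinPart.nbhd f n).presheaf.map
      (homOfLE (nbW_le_preimage_diagNbhd f n (U := U))).op)
  refine ⟨fun y => ?_, ?_⟩
  · obtain ⟨y, rfl⟩ := hrb.2 y
    obtain ⟨z, rfl⟩ := Scheme.IdealSheafData.subschemeι_app_surjective _ D' y
    obtain ⟨x, rfl⟩ := hc.2 z
    exact ⟨x, hω x⟩
  · have hI : (PrinPart.diagCl f).ker.ideal D' = RingHom.ker ((PrinPart.diagCl f).app (c ⁻¹ᵁ D)).hom :=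
      Scheme.Hom.ker_apply _ _
    have hker : RingHom.ker (δ f (U := U)) =
        ((PrinPart.diagCl f).ker.ideal D').comap (c.app D).hom := by
      rw [hI, RingHom.comap_ker]
      ext x
      simp only [RingHom.mem_ker]
      have hi : IsIso (homOfLE (OmegaSh.le_preimage_diagNbhd f U)) :=
        ⟨homOfLE (diagonal_preimage_diagNbhd f).le, Subsingleton.elim _ _, Subsingleton.elim _ _⟩
      have hb := ConcreteCategory.bijective_of_isIso
        (X.presheaf.map (homOfLE (OmegaSh.le_preimage_diagNbhd f U)).op)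
      change X.presheaf.map _ ((pullback.diagonal f).app D x) = 0 ↔
        (PrinPart.diagCl f).app (c ⁻¹ᵁ D) (c.app D x) = 0
      rw [map_eq_zero_iff _ hb.1]
      have h1 := Scheme.Hom.congr_app (pullback.diagonal f).liftCoborder_ι.symm D
      have hb2 := ConcreteCategory.bijective_of_isIso (X.presheaf.map
        (eqToHom (congr($((pullback.diagonal f).liftCoborder_ι.symm) ⁻¹ᵁ D))).op)
      rw [h1]
      exact map_eq_zero_iff _ hb2.1
    rw [hker]
    let eq' : Γ(pullback f f, D) ≃+* Γ((pullback.diagonal f).coborderRange.toScheme, c ⁻¹ᵁ D) :=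
      RingEquiv.ofBijective (c.app D).hom hc
    change _ = (((PrinPart.diagCl f).ker.ideal D').comap eq') ^ (n + 1)
    rw [← Ideal.map_symm, ← Ideal.map_pow, Ideal.map_symm]
    ext x
    rw [RingHom.mem_ker, hω, map_eq_zero_iff _ hrb.1, Ideal.mem_comap,
      ← show ((PrinPart.diagCl f).ker ^ (n + 1)).ideal D' = (PrinPart.diagCl f).ker.ideal D' ^ (n + 1) from rfl,
      ← Scheme.IdealSheafData.ker_subschemeι_app]
    rfl

/-- `B ⊗[A] B → Γ(X^{(n)}_Δ|_U)`. -/
noncomputable def π :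
    letI := chartAlg f e
    Γ(X, U) ⊗[Γ(S, V)] Γ(X, U) →+* Γ(PrinPart.nbhd f n, nbW f n U) :=
  letI := chartAlg f e
  (ω f n).comp (θ f e hV hU).toRingHom

lemma π_tmul (b c : Γ(X, U)) :
    letI := chartAlg f e
    π f n e hV hU (b ⊗ₜ c) = (PrinPart.pr1 f n).app U b *
      (PrinPart.pr2 f n).appLE U (nbW f n U) (PrinPart.preimage_pr1 f n U).le c := by
  letI := chartAlg f e
  rw [show (b ⊗ₜ[Γ(S, V)] c) = (b ⊗ₜ 1) * (1 ⊗ₜ c) by
    rw [Algebra.TensorProduct.tmul_mul_tmul, mul_one, one_mul], map_mul]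
  change ω f n (θ f e hV hU (b ⊗ₜ 1)) * ω f n (θ f e hV hU (1 ⊗ₜ c)) = _
  rw [θ_inl, θ_inr, ω_fst, ω_snd]

lemma π_surjective : Function.Surjective (π f n e hV hU) :=
  letI := chartAlg f e
  (ω_props f n e hV hU).1.comp (θ f e hV hU).surjective

lemma π_eq_zero_iff :
    letI := chartAlg f e
    ∀ x : Γ(X, U) ⊗[Γ(S, V)] Γ(X, U),
      π f n e hV hU x = 0 ↔ x ∈ KaehlerDifferential.ideal Γ(S, V) Γ(X, U) ^ (n + 1) := by
  letI := chartAlg f e
  intro x
  have h1 : RingHom.ker (δ f (U := U)) =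
      (KaehlerDifferential.ideal Γ(S, V) Γ(X, U)).map (θ f e hV hU) := by
    rw [← Ideal.comap_symm]
    ext y
    rw [RingHom.mem_ker, Ideal.mem_comap, RingHom.mem_ker, ← δ_θ f e hV hU, RingEquiv.apply_symm_apply]
  change ω f n (θ f e hV hU x) = 0 ↔ _
  rw [← RingHom.mem_ker, (ω_props f n e hV hU).2, h1, ← Ideal.map_pow, ← Ideal.comap_symm,
    Ideal.mem_comap, RingEquiv.symm_apply_apply]

end Groth.PrinPartsAux
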