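import Groth.Agent.SchemeMorphisms.PrinParts.Ops

/-!
# Factorisation of differential operators through the principal parts
-/

universe u

open CategoryTheory Limits AlgebraicGeometry Opposite TopologicalSpace TensorProduct
open Groth.OmegaSheaf Groth.QCohMod

namespace Groth.PrinPartsAux

variable {X S : Scheme.{u}} (f : X ⟶ S) (n : ℕ) {F G : X.Modules}

lemma pr2_appLE_base (V : S.Opens) (s : Γ(S, V)) (U : X.Opens) (hU : U ≤ f ⁻¹ᵁ V) :
    (PrinPart.pr2 f n).appLE U (nbW f n U) (PrinPart.preimage_pr1 f n U).le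
        (X.presheaf.map (homOfLE hU).op (f.app V s)) =
      (PrinPart.pr1 f n).app U (X.presheaf.map (homOfLE hU).op (f.app V s)) := by
  rw [Scheme.Hom.app_eq_appLE (f := PrinPart.pr1 f n)]
  change (f.appLE V U hU ≫ (PrinPart.pr2 f n).appLE U (nbW f n U) _) s =
    (f.appLE V U hU ≫ (PrinPart.pr1 f n).appLE U (nbW f n U) _) s
  rw [Scheme.Hom.appLE_comp_appLE, Scheme.Hom.appLE_comp_appLE]
  simp only [PrinPart.pr1_comp]

lemma dPHom_semilin (F : X.Modules) : IsSemilin f (PrinPart.dPHom f n F) := by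
  intro V s U hU t
  change PrinPart.dP f n F U (_ • t) = _ • PrinPart.dP f n F U t
  refine (ofPF_toPF f n F _).symm.trans ((congrArg (ofPF f n F) ?_).trans (ofPF_toPF f n F _))
  rw [dP_smul, PMod_smul, pr2_appLE_base]

/-- The vanishing conditions on charts. -/
def Vanishes (D : F.presheaf ⟶ G.presheaf) : Prop :=
  ∀ (U : X.Opens) (V : S.Opens) (_ : U ≤ f ⁻¹ᵁ V), IsAffineOpen V → IsAffineOpen U →
    ∀ L : List (Γ(X, U) × Γ(X, U)), val f n L = 0 → ∀ t : Γ(F, U), opv D L t = 0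

lemma semilin_of_factor (D : F.presheaf ⟶ G.presheaf) (h : PrinPart.IsDiffOpLE f F G n D) :
    IsSemilin f D := by
  obtain ⟨u, hu⟩ := h
  intro V s U hU t
  rw [hu, hu]
  have h1 := dPHom_semilin f n F V s U hU t
  change PrinPart.dP f n F U _ = _ at h1
  rw [h1]
  exact u.app_smul _ _

lemma vanishes_of_factor (D : F.presheaf ⟶ G.presheaf) (h : PrinPart.IsDiffOpLE f F G n D) :
    Vanishes f n D := by
  obtain ⟨u, hu⟩ := h
  intro U V _ _ _ L hL t
  rw [opv_comp (PrinPart.dPHom f n F) u D hu L t, ← val_smul_dP, hL]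
  rw [zero_smul]
  exact map_zero _

section Build

variable (D : F.presheaf ⟶ G.presheaf) (hD : Vanishes f n D) (x : X)

lemma pr2_toNbhd_mem {U : X.Opens} (hx : x ∈ U) :
    PrinPart.pr2 f n (PrinPart.toNbhd f n x) ∈ U := by rwa [pr2_toNbhd]

/-- Germ at the diagonal point. -/
noncomputable abbrev germN {U : X.Opens} (hx : x ∈ U) :
    Γ(PrinPart.nbhd f n, nbW f n U) →+* (PrinPart.nbhd f n).presheaf.stalk (PrinPart.toNbhd f n x) :=
  ((PrinPart.nbhd f n).presheaf.germ (nbW f n U) _ (toNbhd_mem_nbW f n hx)).hom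

include hD in
lemma keyGerm {U₁ U₂ : X.Opens} (h₁ : x ∈ U₁) (h₂ : x ∈ U₂)
    (L₁ : List (Γ(X, U₁) × Γ(X, U₁))) (L₂ : List (Γ(X, U₂) × Γ(X, U₂)))
    (t₁ : Γ(F, U₁)) (t₂ : Γ(F, U₂))
    (hr : germN f n x h₁ (val f n L₁) = germN f n x h₂ (val f n L₂))
    (ht : germ F _ (pr2_toNbhd_mem f n x h₁) t₁ = germ F _ (pr2_toNbhd_mem f n x h₂) t₂) :
    germ G x h₁ (opv D L₁ t₁) = germ G x h₂ (opv D L₂ t₂) := by
  obtain ⟨O, hO, a₁, a₂, hO'⟩ := TopCat.Presheaf.germ_eq (PrinPart.nbhd f n).presheaf _ _ _ _ _ hr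
  obtain ⟨W, hW, b₁, b₂, hW'⟩ := TopCat.Presheaf.germ_eq F.presheaf _ _ _ _ _ ht
  have hxW : x ∈ W := by rwa [pr2_toNbhd] at hW
  obtain ⟨U, V, e, hV, hU, hxU, hle⟩ :=
    exists_chart f x (U₀ := PrinPart.toNbhd f n ⁻¹ᵁ O ⊓ W) ⟨hO, hxW⟩
  have hUW : U ≤ W := hle.trans inf_le_right
  have hUO : nbW f n U ≤ O := fun z hz => by
    have := (hle hz).1
    change PrinPart.toNbhd f n (PrinPart.pr1 f n z) ∈ O at this
    rwa [toNbhd_pr1] at this
  have hU₁ : U ≤ U₁ := hUW.trans (leOfHom b₁)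
  have hU₂ : U ≤ U₂ := hUW.trans (leOfHom b₂)
  have hval : val f n (resL hU₁ L₁) = val f n (resL hU₂ L₂) := by
    have h := congrArg (resFun (PrinPart.nbhd f n) hUO) hO'
    rw [← res_val, ← res_val]
    exact ((resFun_resFun (leOfHom a₁) hUO (val f n L₁)).symm.trans h).trans
      (resFun_resFun (leOfHom a₂) hUO (val f n L₂))
  have htt : res F hU₁ t₁ = res F hU₂ t₂ :=
    ((res_res F (leOfHom b₁) hUW t₁).symm.trans (congrArg (res F hUW) hW')).trans
      (res_res F (leOfHom b₂) hUW t₂)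
  have h0 := hD U V e hV hU (resL hU₁ L₁ ++ negL (resL hU₂ L₂))
    (by rw [val_append, val_negL, hval, add_neg_cancel]) (res F hU₂ t₂)
  rw [opv_append, opv_negL, add_neg_eq_zero] at h0
  rw [← germ_res G hU₁ x hxU, ← germ_res G hU₂ x hxU, res_opv, res_opv, htt, h0]

lemma exists_rep {U₀ : X.Opens} (hx₀ : x ∈ U₀)
    (r : (PrinPart.nbhd f n).presheaf.stalk (PrinPart.toNbhd f n x))
    (τ : F.presheaf.stalk (PrinPart.pr2 f n (PrinPart.toNbhd f n x))) :
    ∃ (U : X.Opens) (hx : x ∈ U) (_ : U ≤ U₀) (L : List (Γ(X, U) × Γ(X, U))) (t : Γ(F, U)),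
      germN f n x hx (val f n L) = r ∧ germ F _ (pr2_toNbhd_mem f n x hx) t = τ := by
  obtain ⟨U₁, hx₁, t, rfl⟩ := exists_germ F _ τ
  obtain ⟨O, hO, r, rfl⟩ := TopCat.Presheaf.exists_germ_eq (PrinPart.nbhd f n).presheaf r
  have hx₁' : x ∈ U₁ := by rwa [pr2_toNbhd] at hx₁
  obtain ⟨U, V, e, hV, hU, hxU, hle⟩ :=
    exists_chart f x (U₀ := U₀ ⊓ U₁ ⊓ PrinPart.toNbhd f n ⁻¹ᵁ O) ⟨⟨hx₀, hx₁'⟩, hO⟩
  have hUO : nbW f n U ≤ O := fun z hz => by
    have := (hle hz).2
    change PrinPart.toNbhd f n (PrinPart.pr1 f n z) ∈ O at this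
    rwa [toNbhd_pr1] at this
  have hU₁ : U ≤ U₁ := fun z hz => (hle hz).1.2
  obtain ⟨z, hz⟩ := π_surjective f n e hV hU (resFun (PrinPart.nbhd f n) hUO r)
  obtain ⟨L, rfl⟩ := exists_toTens f e z
  rw [π_toTens] at hz
  refine ⟨U, hxU, fun z hz => (hle hz).1.1, L, res F hU₁ t, ?_, germ_res F hU₁ _ _ t⟩
  rw [hz]
  exact TopCat.Presheaf.germ_res_apply (PrinPart.nbhd f n).presheaf (homOfLE hUO) _ _ r

/-- The pairing on stalks. -/
noncomputable def ψ (r : (PrinPart.nbhd f n).presheaf.stalk (PrinPart.toNbhd f n x))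
    (τ : F.presheaf.stalk (PrinPart.pr2 f n (PrinPart.toNbhd f n x))) : G.presheaf.stalk x :=
  have h := exists_rep f n x (U₀ := ⊤) trivial r τ
  germ G x h.choose_spec.choose
    (opv D h.choose_spec.choose_spec.choose_spec.choose
      h.choose_spec.choose_spec.choose_spec.choose_spec.choose)

include hD in
lemma ψ_eq {U : X.Opens} (hx : x ∈ U) (L : List (Γ(X, U) × Γ(X, U))) (t : Γ(F, U))
    {r : (PrinPart.nbhd f n).presheaf.stalk (PrinPart.toNbhd f n x)}
    {τ : F.presheaf.stalk (PrinPart.pr2 f n (PrinPart.toNbhd f n x))}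
    (hr : germN f n x hx (val f n L) = r) (ht : germ F _ (pr2_toNbhd_mem f n x hx) t = τ) :
    ψ f n D x r τ = germ G x hx (opv D L t) := by
  have h := exists_rep f n x (U₀ := ⊤) trivial r τ
  have hs := h.choose_spec.choose_spec.choose_spec.choose_spec.choose_spec
  exact keyGerm f n D hD x _ hx _ L _ t (hs.1.trans hr.symm) (hs.2.trans ht.symm)

include hD in
lemma ψ_add_left (r r' : (PrinPart.nbhd f n).presheaf.stalk (PrinPart.toNbhd f n x))
    (τ : F.presheaf.stalk (PrinPart.pr2 f n (PrinPart.toNbhd f n x))) :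
    ψ f n D x (r + r') τ = ψ f n D x r τ + ψ f n D x r' τ := by
  obtain ⟨U₁, hx₁, -, L₁, t₁, hL₁, ht₁⟩ := exists_rep f n x (U₀ := ⊤) trivial r τ
  obtain ⟨U, hx, hle, L, t, hL, ht⟩ := exists_rep f n x hx₁ r' τ
  have h1 : germN f n x hx (val f n (resL hle L₁)) = r := by
    rw [← res_val, ← hL₁]
    exact TopCat.Presheaf.germ_res_apply (PrinPart.nbhd f n).presheaf _ _ _ _
  rw [ψ_eq f n D hD x hx (resL hle L₁ ++ L) t (by rw [val_append, map_add, h1, hL]) ht,
    ψ_eq f n D hD x hx (resL hle L₁) t h1 ht, ψ_eq f n D hD x hx L t hL ht, opv_append, map_add]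

include hD in
lemma ψ_add_right (r : (PrinPart.nbhd f n).presheaf.stalk (PrinPart.toNbhd f n x))
    (τ τ' : F.presheaf.stalk (PrinPart.pr2 f n (PrinPart.toNbhd f n x))) :
    ψ f n D x r (τ + τ') = ψ f n D x r τ + ψ f n D x r τ' := by
  obtain ⟨U₁, hx₁, -, L₁, t₁, hL₁, ht₁⟩ := exists_rep f n x (U₀ := ⊤) trivial r τ
  obtain ⟨U, hx, hle, L, t, hL, ht⟩ := exists_rep f n x hx₁ r τ'
  have h1 : germ F _ (pr2_toNbhd_mem f n x hx) (res F hle t₁) = τ := by
    rw [germ_res, ← ht₁]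
  rw [ψ_eq f n D hD x hx L (res F hle t₁ + t) hL (by rw [map_add, h1, ht]),
    ψ_eq f n D hD x hx L (res F hle t₁) hL h1, ψ_eq f n D hD x hx L t hL ht, opv_add_right, map_add]

/-- `∑ (b ⊗ c * d)`. -/
noncomputable def mulR {U : X.Opens} (d : Γ(X, U)) (L : List (Γ(X, U) × Γ(X, U))) :
    List (Γ(X, U) × Γ(X, U)) :=
  L.map fun p => (p.1, p.2 * d)

lemma val_mulR {U : X.Opens} (d : Γ(X, U)) (L : List (Γ(X, U) × Γ(X, U))) :
    val f n (mulR d L) =
      (PrinPart.pr2 f n).appLE U (nbW f n U) (PrinPart.preimage_pr1 f n U).le d * val f n L := by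
  induction L with
  | nil => exact (mul_zero _).symm
  | cons p L ih =>
    simp only [val, mulR, List.map_cons, List.sum_cons] at ih ⊢
    rw [ih, map_mul, mul_add]
    congr 1
    ring

lemma opv_mulR {U : X.Opens} (d : Γ(X, U)) (L : List (Γ(X, U) × Γ(X, U))) (t : Γ(F, U)) :
    opv D (mulR d L) t = opv D L (d • t) := by
  induction L with
  | nil => rfl
  | cons p L ih =>
    simp only [opv, mulR, List.map_cons, List.sum_cons] at ih ⊢
    rw [ih, mul_smul]

include hD in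
lemma ψ_balanced (c : X.presheaf.stalk (PrinPart.pr2 f n (PrinPart.toNbhd f n x)))
    (r : (PrinPart.nbhd f n).presheaf.stalk (PrinPart.toNbhd f n x))
    (τ : F.presheaf.stalk (PrinPart.pr2 f n (PrinPart.toNbhd f n x))) :
    ψ f n D x ((PrinPart.pr2 f n).stalkMap (PrinPart.toNbhd f n x) c * r) τ =
      ψ f n D x r (c • τ) := by
  obtain ⟨U₁, hx₁, c, rfl⟩ := TopCat.Presheaf.exists_germ_eq X.presheaf c
  have hx₁' : x ∈ U₁ := by rwa [pr2_toNbhd] at hx₁
  obtain ⟨U, hx, hle, L, t, hL, ht⟩ := exists_rep f n x hx₁' r τ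
  have hd : X.presheaf.germ U _ (pr2_toNbhd_mem f n x hx) (resFun X hle c) =
      X.presheaf.germ U₁ _ hx₁ c := TopCat.Presheaf.germ_res_apply X.presheaf _ _ _ c
  rw [ψ_eq f n D hD x hx L (resFun X hle c • t) hL (by rw [germ_smul, hd, ht]),
    ψ_eq f n D hD x hx (mulR (resFun X hle c) L) t ?_ ht, opv_mulR]
  rw [val_mulR, map_mul, hL, ← hd]
  congr 1
  rw [Scheme.Hom.germ_stalkMap_apply]
  exact TopCat.Presheaf.germ_res_apply (PrinPart.nbhd f n).presheaf _ _ _ _

/-- The pairing as a map out of the stalk of the pullback. -/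
noncomputable def Φ :
    (pF f n F).presheaf.stalk (PrinPart.toNbhd f n x) →+ G.presheaf.stalk x :=
  letI := stalkAlg (PrinPart.pr2 f n) (PrinPart.toNbhd f n x)
  (TensorProduct.liftAddHom
    { toFun := fun r => AddMonoidHom.mk' (ψ f n D x r) (ψ_add_right f n D hD x r)
      map_zero' := AddMonoidHom.ext fun τ => by
        have := ψ_add_left f n D hD x 0 0 τ
        rw [zero_add, eq_comm, add_eq_left] at this
        exact this
      map_add' := fun r r' => AddMonoidHom.ext fun τ => ψ_add_left f n D hD x r r' τ }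
    fun c r τ => ψ_balanced f n D hD x c r τ).comp
  (pullStalkEquiv (PrinPart.pr2 f n) F (PrinPart.toNbhd f n x)).symm.toAddEquiv.toAddMonoidHom

lemma Φ_val_smul {U : X.Opens} (hx : x ∈ U) (L : List (Γ(X, U) × Γ(X, U))) (t : Γ(F, U)) :
    Φ f n D hD x (germ (pF f n F) (U := nbW f n U) _ (toNbhd_mem_nbW f n hx)
      (val f n L • toPF f n F (PrinPart.dP f n F U t))) = germ G x hx (opv D L t) := by
  let _ := stalkAlg (PrinPart.pr2 f n) (PrinPart.toNbhd f n x)
  have h : germ (pF f n F) (U := nbW f n U) _ (toNbhd_mem_nbW f n hx)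
      (val f n L • toPF f n F (PrinPart.dP f n F U t)) =
      pullStalkEquiv (PrinPart.pr2 f n) F (PrinPart.toNbhd f n x)
        (germN f n x hx (val f n L) ⊗ₜ germ F _ (pr2_toNbhd_mem f n x hx) t) := by
    change _ = pullStalkHom (PrinPart.pr2 f n) F (PrinPart.toNbhd f n x) _
    rw [pullStalkHom_tmul, pullGerm_germ, germ_smul]
    congr 1
    rw [toPF, PrinPart.dP_apply]
    exact germ_res (pF f n F) (PrinPart.preimage_pr1 f n U).le _ (toNbhd_mem_nbW f n hx) _
  rw [h]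
  simp only [Φ, AddMonoidHom.coe_comp, AddEquiv.coe_toAddMonoidHom, Function.comp_apply,
    LinearEquiv.coe_toAddEquiv]
  refine (congrArg _ (LinearEquiv.symm_apply_apply
    (pullStalkEquiv (PrinPart.pr2 f n) F (PrinPart.toNbhd f n x)) _)).trans ?_
  exact ψ_eq f n D hD x hx L t rfl rfl

/-- The value on a section of `P^n(F)`. -/
noncomputable def ΦSec {U : X.Opens} (hx : x ∈ U) :
    Γ(PrinPart.PMod f n F, U) →+ G.presheaf.stalk x :=
  (Φ f n D hD x).comp
    ((germ (pF f n F) (U := nbW f n U) _ (toNbhd_mem_nbW f n hx)).comp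
      (AddMonoidHom.mk' (toPF f n F) fun _ _ => rfl))

lemma ΦSec_res {U U' : X.Opens} (h : U' ≤ U) (hx : x ∈ U') (s : Γ(PrinPart.PMod f n F, U)) :
    ΦSec f n D hD x hx (res (PrinPart.PMod f n F) h s) = ΦSec f n D hD x (h hx) s :=
  congrArg (Φ f n D hD x) (germ_res (pF f n F) ((PrinPart.pr1 f n).preimage_mono h) _ _ s)

lemma ΦSec_smul_dP {U : X.Opens} (hx : x ∈ U) (b : Γ(X, U)) (t : Γ(F, U)) :
    ΦSec f n D hD x hx (b • PrinPart.dP f n F U t) = germ G x hx (b • D.app (op U) t) := by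
  have h := Φ_val_smul f n D hD x hx [(b, (1 : Γ(X, U)))] t
  simp only [val, opv, List.map_cons, List.map_nil, List.sum_cons, List.sum_nil, add_zero,
    map_one, mul_one, one_smul] at h
  exact h

lemma ΦSec_dP {U : X.Opens} (hx : x ∈ U) (t : Γ(F, U)) :
    ΦSec f n D hD x hx (PrinPart.dP f n F U t) = germ G x hx (D.app (op U) t) := by
  have h := ΦSec_smul_dP f n D hD x hx 1 t
  rwa [one_smul, one_smul] at h

lemma ΦSec_smul_mem {U : X.Opens} (hx : x ∈ U) {m : Γ(PrinPart.PMod f n F, U)}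
    (hm : m ∈ dSpan f n F U) : ∀ b : Γ(X, U),
    ΦSec f n D hD x hx (b • m) = X.presheaf.germ U x hx b • ΦSec f n D hD x hx m := by
  induction hm using Submodule.span_induction with
  | mem z hz =>
    obtain ⟨t, rfl⟩ := hz
    intro b
    rw [ΦSec_smul_dP, ΦSec_dP, germ_smul]
  | zero => intro b; rw [smul_zero, map_zero, smul_zero]
  | add p q _ _ hp hq => intro b; rw [smul_add, map_add, map_add, hp, hq, smul_add]
  | smul r p _ hp => intro b; rw [smul_smul, hp, hp, map_mul, mul_smul]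

lemma exists_glue {U : X.Opens} {m : Γ(PrinPart.PMod f n F, U)} (hm : m ∈ dSpan f n F U) :
    ∃ g : Γ(G, U), ∀ (x : X) (hx : x ∈ U), germ G x hx g = ΦSec f n D hD x hx m := by
  induction hm using Submodule.span_induction with
  | mem z hz =>
    obtain ⟨t, rfl⟩ := hz
    exact ⟨D.app (op U) t, fun x hx => (ΦSec_dP f n D hD x hx t).symm⟩
  | zero => exact ⟨0, fun x hx => by rw [map_zero, map_zero]⟩
  | add p q _ _ hp hq =>
    obtain ⟨a, ha⟩ := hp
    obtain ⟨b, hb⟩ := hq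
    exact ⟨a + b, fun x hx => by rw [map_add, map_add, ha, hb]⟩
  | smul r p hp' hp =>
    obtain ⟨a, ha⟩ := hp
    exact ⟨r • a, fun x hx => by rw [germ_smul, ha, ΦSec_smul_mem f n D hD x hx hp']⟩

lemma existsUnique_app {U₀ : X.Opens} (s : Γ(PrinPart.PMod f n F, U₀)) :
    ∃! g : Γ(G, U₀), ∀ (x : X) (hx : x ∈ U₀), germ G x hx g = ΦSec f n D hD x hx s := by
  choose U hU hxU hs using fun x : U₀ => exists_res_mem_dSpan f n F s x.1 x.2
  choose g hg using fun x => exists_glue f n D hD (hs x)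
  have hg' : ∀ (i : U₀) (x : X) (hx : x ∈ U i), germ G x hx (g i) = ΦSec f n D hD x (hU i hx) s :=
    fun i x hx => (hg i x hx).trans (ΦSec_res f n D hD x (hU i) hx s)
  let GS : TopCat.Sheaf AddCommGrpCat.{u} X := ⟨G.presheaf, G.isSheaf⟩
  obtain ⟨gl, hgl, -⟩ := GS.existsUnique_gluing' U U₀ (fun i => homOfLE (hU i))
    (fun x hx => Opens.mem_iSup.mpr ⟨⟨x, hx⟩, hxU _⟩) g (fun i j => by
      refine TopCat.Presheaf.section_ext GS _ _ _ fun x hx => ?_
      exact ((germ_res G inf_le_left x hx (g i)).trans (hg' i x hx.1)).trans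
        ((germ_res G inf_le_right x hx (g j)).trans (hg' j x hx.2)).symm)
  have hgl' : ∀ (x : X) (hx : x ∈ U₀), germ G x hx gl = ΦSec f n D hD x hx s := fun x hx => by
    rw [← hg' ⟨x, hx⟩ x (hxU _), ← germ_res G (hU ⟨x, hx⟩) x (hxU _) gl]
    exact congrArg _ (hgl ⟨x, hx⟩)
  exact ⟨gl, hgl', fun g' hg'' => TopCat.Presheaf.section_ext GS _ _ _ fun x hx =>
    (hg'' x hx).trans (hgl' x hx).symm⟩

/-- The value of the factorisation. -/
noncomputable def uApp (U : X.Opens) (s : Γ(PrinPart.PMod f n F, U)) : Γ(G, U) :=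
  (existsUnique_app f n D hD s).choose

lemma uApp_germ {U : X.Opens} (hx : x ∈ U) (s : Γ(PrinPart.PMod f n F, U)) :
    germ G x hx (uApp f n D hD U s) = ΦSec f n D hD x hx s :=
  (existsUnique_app f n D hD s).choose_spec.1 x hx

lemma uApp_smul (U : X.Opens) (r : Γ(X, U)) (s : Γ(PrinPart.PMod f n F, U)) :
    uApp f n D hD U (r • s) = r • uApp f n D hD U s := by
  refine TopCat.Presheaf.section_ext ⟨G.presheaf, G.isSheaf⟩ U _ _ fun x hx => ?_
  change germ G x hx _ = germ G x hx _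
  obtain ⟨U', hU', hx', hs⟩ := exists_res_mem_dSpan f n F s x hx
  rw [germ_smul, uApp_germ f n D hD x hx, uApp_germ f n D hD x hx, ← ΦSec_res f n D hD x hU' hx',
    ← ΦSec_res f n D hD x hU' hx' s, res_smul, ΦSec_smul_mem f n D hD x hx' hs]
  congr 1
  exact TopCat.Presheaf.germ_res_apply X.presheaf _ _ _ r

include hD in
theorem isDiffOpLE_of_vanishes : PrinPart.IsDiffOpLE f F G n D := by
  have hadd : ∀ U (s s' : Γ(PrinPart.PMod f n F, U)),
      uApp f n D hD U (s + s') = uApp f n D hD U s + uApp f n D hD U s' := fun U s s' => by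
    refine TopCat.Presheaf.section_ext ⟨G.presheaf, G.isSheaf⟩ U _ _ fun x hx => ?_
    change germ G x hx _ = germ G x hx _
    rw [map_add, uApp_germ f n D hD x hx, uApp_germ f n D hD x hx, uApp_germ f n D hD x hx, map_add]
  let u : PrinPart.PMod f n F ⟶ G :=
    ⟨{ app := fun U => ModuleCat.ofHom (X := (PrinPart.PMod f n F).val.obj U) (Y := G.val.obj U)
        { toFun := fun s => uApp f n D hD U.unop s
          map_add' := hadd U.unop
          map_smul' := fun r s => uApp_smul f n D hD U.unop r s }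
       naturality := fun {U V} i => by
        ext s
        change uApp f n D hD V.unop (res (PrinPart.PMod f n F) (leOfHom i.unop) s) =
          res G (leOfHom i.unop) (uApp f n D hD U.unop s)
        refine TopCat.Presheaf.section_ext ⟨G.presheaf, G.isSheaf⟩ V.unop _ _ fun x hx => ?_
        change germ G x hx _ = germ G x hx _
        rw [germ_res, uApp_germ f n D hD x hx, uApp_germ f n D hD x (leOfHom i.unop hx), ΦSec_res] }⟩
  refine ⟨u, fun U t => ?_⟩
  refine TopCat.Presheaf.section_ext ⟨G.presheaf, G.isSheaf⟩ U _ _ fun x hx => ?_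
  change germ G x hx (D.app (op U) t) = germ G x hx (uApp f n D hD U _)
  rw [uApp_germ f n D hD x hx, ΦSec_dP]

end Build

theorem isDiffOpLE_iff_vanishes (D : F.presheaf ⟶ G.presheaf) :
    PrinPart.IsDiffOpLE f F G n D ↔ Vanishes f n D :=
  ⟨vanishes_of_factor f n D, isDiffOpLE_of_vanishes f n D⟩

theorem isDiffOpLE_iff_chartOp (D : F.presheaf ⟶ G.presheaf) :
    PrinPart.IsDiffOpLE f F G n D ↔ ∃ h : IsSemilin f D, ∀ (U : X.Opens) (V : S.Opens)
      (e : U ≤ f ⁻¹ᵁ V), IsAffineOpen V → IsAffineOpen U → ChartOp f D h e n := by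
  constructor
  · intro h
    exact ⟨semilin_of_factor f n D h, fun U V e hV hU =>
      (chartOp_iff f n D e hV hU _).mpr (vanishes_of_factor f n D h U V e hV hU)⟩
  · rintro ⟨h, hc⟩
    exact isDiffOpLE_of_vanishes f n D fun U V e hV hU =>
      (chartOp_iff f n D e hV hU h).mp (hc U V e hV hU)

end Groth.PrinPartsAux
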