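import Groth.Prelude.Def_OmegaPn
import Groth.Agent.OmegaSheaf.ConormalPull
import Groth.Agent.OmegaSheaf.IsoLocal
import Groth.Agent.SchemeMorphisms.PrinParts.BaseChange

/-!
# Maps of graded pieces on charts
-/

universe u

open CategoryTheory Limits AlgebraicGeometry Opposite TopologicalSpace TensorProduct
open Groth.OmegaSheaf
open Groth.QCohMod (res res_res res_smul res_app res_self)

namespace Groth.PrinPartsAux

instance isQCoh_grMod {Y X : Scheme.{u}} (i : Y ⟶ X) (n : ℕ) :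
    (PrinPart.grMod i n).IsQuasicoherent :=
  Groth.QCohMod.isQCoh_pullback_obj i (ClSub.idealMod (i.ker ^ n))

lemma idealPow_ideal {X : Scheme.{u}} (K : X.IdealSheafData) (n : ℕ) (W : X.affineOpens) :
    (K ^ n).ideal W = K.ideal W ^ n := rfl

/-- A function lying in the ideal on every affine open below it is a section of the ideal sheaf. -/
lemma exists_idealSect_of_affine {X : Scheme.{u}} (K : X.IdealSheafData) {W : X.Opens} {x : Γ(X, W)}
    (hx : ∀ (V : X.affineOpens) (h : V.1 ≤ W), X.presheaf.map (homOfLE h).op x ∈ K.ideal V) :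
    ∃ k : Γ(ClSub.idealMod K, W), OmegaSh.idealSect K W k = x := by
  refine exists_idealSect_eq K W x ?_
  let ι := K.subschemeι
  refine K.subscheme.sheaf.eq_of_locally_eq'
    (fun V : {V : X.affineOpens // (V : X.Opens) ≤ W} => ι ⁻¹ᵁ (V.1 : X.Opens))
    (ι ⁻¹ᵁ W) (fun V => (Opens.map ι.base).map (homOfLE V.2)) ?_ _ _ ?_
  · intro z hz
    obtain ⟨_, ⟨V, hV, rfl⟩, hzV, hVW⟩ :=
      X.isBasis_affineOpens.exists_subset_of_mem_open hz W.isOpen
    exact Opens.mem_iSup.mpr ⟨⟨⟨V, hV⟩, hVW⟩, hzV⟩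
  · intro V
    change K.subscheme.presheaf.map ((Opens.map ι.base).map (homOfLE V.2)).op (ι.app W x) =
      K.subscheme.presheaf.map ((Opens.map ι.base).map (homOfLE V.2)).op 0
    rw [map_zero, ← ConcreteCategory.comp_apply]
    erw [← Scheme.Hom.naturality ι (homOfLE V.2).op]
    rw [ConcreteCategory.comp_apply]
    have hmem := hx V.1 V.2
    rw [← Scheme.IdealSheafData.ker_subschemeι_app, RingHom.mem_ker] at hmem
    exact hmem

lemma res_grSect {Y X : Scheme.{u}} (i : Y ⟶ X) (n : ℕ) {U V : X.Opens} (e : V ≤ U)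
    (m : Γ(ClSub.idealMod (i.ker ^ n), U)) :
    res (PrinPart.grMod i n) (i.preimage_mono e) (PrinPart.grSect i n U m) =
      PrinPart.grSect i n V (res _ e m) :=
  Groth.OmegaSheaf.res_pullSect _ e m

lemma grSect_smul {Y X : Scheme.{u}} (i : Y ⟶ X) (n : ℕ) {U : X.Opens} (r : Γ(X, U))
    (m : Γ(ClSub.idealMod (i.ker ^ n), U)) :
    PrinPart.grSect i n U (r • m) = i.app U r • PrinPart.grSect i n U m :=
  Groth.PicAux.pullSec_smul i _ r m

section Chart

variable {Y X : Scheme.{u}} {i : Y ⟶ X} {W : X.Opens} (n : ℕ)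

lemma grSect_surjective (h : IsConormalChart i W) :
    Function.Surjective (PrinPart.grSect i n W) :=
  (h.pullSect_app (ClSub.idealMod (i.ker ^ n))).1

/-- Over a chart, `Gr_n` is `I^n / I^(n+1)`. -/
lemma grSect_eq_zero_iff [QuasiCompact i] (h : IsConormalChart i W)
    (k : Γ(ClSub.idealMod (i.ker ^ n), W)) :
    PrinPart.grSect i n W k = 0 ↔
      OmegaSh.idealSect (i.ker ^ n) W k ∈ RingHom.ker (i.app W).hom ^ (n + 1) := by
  refine ((h.pullSect_app (ClSub.idealMod (i.ker ^ n))).2 k).trans ?_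
  have hI : (i.ker ^ n).ideal ⟨W, h.affine⟩ = RingHom.ker (i.app W).hom ^ n := by
    rw [idealPow_ideal, ker_ideal_eq (i := i) h.affine]
  constructor
  · intro hk
    rw [pow_succ']
    induction hk using Submodule.smul_induction_on' with
    | smul r hr m _ =>
      rw [idealSect_smul]
      exact Ideal.mul_mem_mul hr (hI ▸ idealSect_mem (i.ker ^ n) ⟨W, h.affine⟩ m)
    | add p hp q hq hp' hq' => rw [map_add]; exact add_mem hp' hq'
  · intro hk
    have key : ∀ x (hx : x ∈ RingHom.ker (i.app W).hom ^ (n + 1)),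
        ∀ k' : Γ(ClSub.idealMod (i.ker ^ n), W), OmegaSh.idealSect (i.ker ^ n) W k' = x →
          k' ∈ RingHom.ker (i.app W).hom •
            (⊤ : Submodule Γ(X, W) Γ(ClSub.idealMod (i.ker ^ n), W)) := by
      intro x hx
      rw [pow_succ'] at hx
      induction hx using Submodule.mul_induction_on' with
      | mem_mul_mem r hr s hs =>
        intro k' hk'
        obtain ⟨m, hm⟩ := exists_idealSect (i.ker ^ n) ⟨W, h.affine⟩ (x := s) (hI.symm ▸ hs)
        rw [show k' = r • m from idealSect_injective _ _ (by rw [hk', idealSect_smul, hm])]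
        exact Submodule.smul_mem_smul hr trivial
      | add a ha b hb ha' hb' =>
        intro k' hk'
        obtain ⟨ka, hka⟩ := exists_idealSect (i.ker ^ n) ⟨W, h.affine⟩ (x := a)
          (hI.symm ▸ Ideal.mul_le_right ha)
        obtain ⟨kb, hkb⟩ := exists_idealSect (i.ker ^ n) ⟨W, h.affine⟩ (x := b)
          (hI.symm ▸ Ideal.mul_le_right hb)
        rw [show k' = ka + kb from idealSect_injective _ _ (by rw [hk', map_add, hka, hkb])]
        exact add_mem (ha' ka hka) (hb' kb hkb)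
    exact key _ hk k rfl

end Chart

variable {Y X Y' X' : Scheme.{u}} (i : Y ⟶ X) (i' : Y' ⟶ X') [QuasiCompact i] [QuasiCompact i']
  (g : X ⟶ X') (gZ : Y ⟶ Y')

lemma map_ker_le (hsq : gZ ≫ i' = i ≫ g) {W' : X'.Opens} {W : X.Opens} (e : W ≤ g ⁻¹ᵁ W') :
    (RingHom.ker (i'.app W').hom).map (g.appLE W' W e).hom ≤ RingHom.ker (i.app W).hom := by
  refine Ideal.map_le_iff_le_comap.mpr fun r hr => ?_
  rw [Ideal.mem_comap, RingHom.mem_ker]
  change (g.appLE W' W e ≫ i.app W) r = 0
  rw [Scheme.Hom.app_eq_appLE, Scheme.Hom.appLE_comp_appLE]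
  have key : ∀ q : Y ⟶ X', q = gZ ≫ i' → ∀ h : i ⁻¹ᵁ W ≤ q ⁻¹ᵁ W',
      q.appLE W' (i ⁻¹ᵁ W) h r = 0 := by
    rintro q rfl h
    rw [Scheme.Hom.comp_appLE, CommRingCat.comp_apply,
      show i'.app W' r = 0 from hr, map_zero]
  exact key _ hsq.symm _

lemma res_app_mem_pow (hsq : gZ ≫ i' = i ≫ g) (n : ℕ) {W' : X'.Opens} (hW' : IsAffineOpen W')
    {x : Γ(X', W')} (hx : x ∈ RingHom.ker (i'.app W').hom ^ n) (V : X.affineOpens)
    (hV : V.1 ≤ g ⁻¹ᵁ W') :
    X.presheaf.map (homOfLE hV).op (g.app W' x) ∈ (i.ker ^ n).ideal V := by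
  rw [idealPow_ideal, Scheme.Hom.ker_apply]
  change g.appLE W' V.1 hV x ∈ RingHom.ker (i.app V.1).hom ^ n
  refine Ideal.pow_right_mono (map_ker_le i i' g gZ hsq hV) n ?_
  rw [← Ideal.map_pow]
  exact Ideal.mem_map_of_mem _ hx

variable {n : ℕ} {φ : (Scheme.Modules.pullback gZ).obj (PrinPart.grMod i' n) ⟶ PrinPart.grMod i n}

/-- The map of graded pieces over charts on which the ideals generate one another. -/
theorem grMap_app_surjective_and_injective (hφ : PrinPart.IsGrMap i i' g gZ n φ) {W' : X'.Opens}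
    {W : X.Opens} (h' : IsConormalChart i' W') (h : IsConormalChart i W) (e : W ≤ g ⁻¹ᵁ W')
    (hker : RingHom.ker (i.app W).hom ≤
      (RingHom.ker (i'.app W').hom).map (g.appLE W' W e).hom) :
    Function.Surjective (φ.app (i ⁻¹ᵁ W)) ∧
      ((letI := (g.appLE W' W e).hom.toAlgebra
        Function.Injective ((RingHom.ker (i'.app W').hom ^ n).subtype.lTensor Γ(X, W))) →
        Function.Injective (φ.app (i ⁻¹ᵁ W))) := by
  have eT : i ⁻¹ᵁ W ≤ gZ ⁻¹ᵁ (i' ⁻¹ᵁ W') := by
    rw [← Scheme.Hom.comp_preimage, hφ.1]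
    exact i.preimage_mono e
  let P := (Scheme.Modules.pullback gZ).obj (PrinPart.grMod i' n)
  let E := idealSecEquiv (i'.ker ^ n) ⟨W', h'.affine⟩
  let J' := RingHom.ker (i'.app W').hom ^ n
  have hJ' : (i'.ker ^ n).ideal ⟨W', h'.affine⟩ = J' := by
    rw [idealPow_ideal, ker_ideal_eq (i := i') h'.affine]
  have hJ : (i.ker ^ n).ideal ⟨W, h.affine⟩ = RingHom.ker (i.app W).hom ^ n := by
    rw [idealPow_ideal, ker_ideal_eq (i := i) h.affine]
  let _ : Algebra Γ(X', W') Γ(X, W) := (g.appLE W' W e).hom.toAlgebra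
  let _ : Module Γ(X, W) Γ(P, i ⁻¹ᵁ W) := Module.compHom _ (i.app W).hom
  let _ : Module Γ(X', W') Γ(P, i ⁻¹ᵁ W) :=
    Module.compHom _ ((i.app W).hom.comp (g.appLE W' W e).hom)
  have : IsScalarTower Γ(X', W') Γ(X, W) Γ(P, i ⁻¹ᵁ W) :=
    IsScalarTower.of_algebraMap_smul fun _ _ ↦ rfl
  have hscal : ∀ r : Γ(X', W'), i.app W (g.appLE W' W e r) =
      Y.presheaf.map (homOfLE eT).op (gZ.app (i' ⁻¹ᵁ W') (i'.app W' r)) := by
    intro r
    have key : ∀ (q q' : Y ⟶ X'), q = q' → ∀ (h₁ : i ⁻¹ᵁ W ≤ q ⁻¹ᵁ W')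
        (h₂ : i ⁻¹ᵁ W ≤ q' ⁻¹ᵁ W'), q.appLE W' _ h₁ r = q'.appLE W' _ h₂ r := by
      rintro q _ rfl h₁ h₂; rfl
    have := key (i ≫ g) (gZ ≫ i') hφ.1.symm (i.preimage_mono e) eT
    rw [Scheme.Hom.app_eq_appLE, ← CommRingCat.comp_apply, Scheme.Hom.appLE_comp_appLE]
    exact this
  let f0 : J' →ₗ[Γ(X', W')] Γ(P, i ⁻¹ᵁ W) :=
    { toFun := fun s ↦ res P eT (OmegaSh.pullSect gZ (PrinPart.grMod i' n) (i' ⁻¹ᵁ W')
        (PrinPart.grSect i' n W' (E.symm ⟨s.1, hJ'.symm ▸ s.2⟩)))
      map_add' := fun a b ↦ by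
        rw [← map_add, ← map_add, ← map_add, ← map_add]
        rfl
      map_smul' := fun r a ↦ by
        change _ = i.app W (g.appLE W' W e r) • res P eT _
        rw [hscal, ← res_smul]
        congr 1
        refine Eq.trans ?_ (Groth.PicAux.pullSec_smul gZ (PrinPart.grMod i' n) _ _)
        refine congrArg (OmegaSh.pullSect gZ (PrinPart.grMod i' n) (i' ⁻¹ᵁ W')) ?_
        rw [← grSect_smul, ← map_smul]
        rfl }
  let F : Γ(X, W) ⊗[Γ(X', W')] J' →ₗ[Γ(X, W)] Γ(P, i ⁻¹ᵁ W) := LinearMap.liftBaseChange _ f0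
  let μ : Γ(X, W) ⊗[Γ(X', W')] J' →ₗ[Γ(X, W)] Γ(X, W) :=
    LinearMap.liftBaseChange _ ((Algebra.linearMap Γ(X', W') Γ(X, W)).comp J'.subtype)
  have hFs : Function.Surjective F := fun y ↦ by
    let _ := Groth.QCohMod.sectionsAlg gZ eT
    obtain ⟨z, rfl⟩ := (Groth.QCohMod.pullSecTensor_bijective gZ (PrinPart.grMod i' n) eT
      h'.affine_preimage h.affine_preimage).2 y
    induction z using TensorProduct.induction_on with
    | zero => exact ⟨0, by rw [map_zero, map_zero]⟩
    | add a b ha hb =>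
      obtain ⟨x, hx⟩ := ha; obtain ⟨x', hx'⟩ := hb
      exact ⟨x + x', by rw [map_add, map_add, hx, hx']⟩
    | tmul b c =>
      obtain ⟨a, rfl⟩ := h.surjective b
      obtain ⟨k, rfl⟩ := grSect_surjective n h' c
      refine ⟨a ⊗ₜ ⟨(E k).1, hJ' ▸ (E k).2⟩, ?_⟩
      rw [LinearMap.liftBaseChange_tmul, Groth.QCohMod.pullSecTensor_tmul]
      change i.app W a • res P eT (OmegaSh.pullSect gZ _ _
        (PrinPart.grSect i' n W' (E.symm _))) = _
      rw [show (⟨(E k).1, _⟩ : (i'.ker ^ n).ideal ⟨W', h'.affine⟩) = E k from rfl,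
        E.symm_apply_apply]
      rfl
  have hμ : ∀ x ∈ RingHom.ker (i.app W).hom ^ n, ∃ z, μ z = x := by
    intro x hx
    have hle : J'.map (g.appLE W' W e).hom ≤ LinearMap.range μ :=
      Ideal.map_le_iff_le_comap.mpr fun s hs ↦
        ⟨1 ⊗ₜ ⟨s, hs⟩, by rw [LinearMap.liftBaseChange_tmul, one_smul]; rfl⟩
    refine hle ?_
    rw [Ideal.map_pow]
    exact Ideal.pow_right_mono hker n hx
  have hμker : ∀ z, μ z ∈ RingHom.ker (i.app W).hom ^ n := by
    intro z
    induction z using TensorProduct.induction_on with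
    | zero => rw [map_zero]; exact zero_mem _
    | add a b ha hb => rw [map_add]; exact add_mem ha hb
    | tmul a s =>
      rw [LinearMap.liftBaseChange_tmul, smul_eq_mul]
      refine Ideal.mul_mem_left _ _ (Ideal.pow_right_mono (map_ker_le i i' g gZ hφ.1 e) n ?_)
      rw [← Ideal.map_pow]
      exact Ideal.mem_map_of_mem _ s.2
  have hφF : ∀ z (k : Γ(ClSub.idealMod (i.ker ^ n), W)),
      OmegaSh.idealSect (i.ker ^ n) W k = μ z →
        φ.app (i ⁻¹ᵁ W) (F z) = PrinPart.grSect i n W k := by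
    intro z
    induction z using TensorProduct.induction_on with
    | zero =>
      intro k hk
      rw [idealSect_injective _ _ (hk.trans ((map_zero μ).trans (map_zero _).symm)), map_zero,
        map_zero, map_zero]
    | add a b ha hb =>
      intro k hk
      obtain ⟨ka, hka⟩ := exists_idealSect (i.ker ^ n) ⟨W, h.affine⟩ (hJ.symm ▸ hμker a)
      obtain ⟨kb, hkb⟩ := exists_idealSect (i.ker ^ n) ⟨W, h.affine⟩ (hJ.symm ▸ hμker b)
      rw [show k = ka + kb from idealSect_injective _ _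
        (by rw [hk, map_add, map_add, hka, hkb]), map_add, map_add, map_add, ha ka hka, hb kb hkb]
    | tmul a s =>
      intro k hk
      let s' := E.symm ⟨s.1, hJ'.symm ▸ s.2⟩
      have hs' : OmegaSh.idealSect (i'.ker ^ n) W' s' = s.1 :=
        (idealSecEquiv_apply (i'.ker ^ n) ⟨W', h'.affine⟩ s').symm.trans
          congr(($(E.apply_symm_apply ⟨s.1, hJ'.symm ▸ s.2⟩)).1)
      obtain ⟨t, ht⟩ : ∃ t, OmegaSh.idealSect (i.ker ^ n) (g ⁻¹ᵁ W') t =
          g.app W' (OmegaSh.idealSect (i'.ker ^ n) W' s') :=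
        exists_idealSect_of_affine _ fun V hV => by
          rw [hs']
          exact res_app_mem_pow i i' g gZ hφ.1 n h'.affine s.2 V hV
      have hk' : k = a • res _ e t := by
        refine idealSect_injective _ _ ?_
        rw [hk, idealSect_smul, LinearMap.liftBaseChange_tmul, smul_eq_mul]
        congr 1
        change g.appLE W' W e s.1 =
          OmegaSh.idealSect (i.ker ^ n) W ((ClSub.idealMod (i.ker ^ n)).presheaf.map _ t)
        rw [idealSect_res, ht, hs']
        rfl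
      rw [hk', grSect_smul, ← res_grSect i n e, LinearMap.liftBaseChange_tmul]
      change φ.app _ (i.app W a • f0 s) = _
      rw [Scheme.Modules.Hom.app_smul]
      congr 1
      change φ.app _ (res P eT _) = _
      rw [← res_app]
      exact hφ.2 W' s' t ht _ eT (i.preimage_mono e)
  refine ⟨fun y ↦ ?_, fun hinj ↦ (injective_iff_map_eq_zero _).mpr fun y hy ↦ ?_⟩
  · obtain ⟨k, rfl⟩ := grSect_surjective n h y
    obtain ⟨z, hz⟩ := hμ _ (hJ ▸ idealSect_mem (i.ker ^ n) ⟨W, h.affine⟩ k)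
    exact ⟨F z, hφF z k hz.symm⟩
  · obtain ⟨z, rfl⟩ := hFs y
    obtain ⟨k, hk⟩ := exists_idealSect (i.ker ^ n) ⟨W, h.affine⟩ (hJ.symm ▸ hμker z)
    rw [hφF z k hk, grSect_eq_zero_iff n h, hk, pow_succ'] at hy
    have hmul : ∀ x ∈ RingHom.ker (i.app W).hom * RingHom.ker (i.app W).hom ^ n,
        ∃ w, μ w = x ∧ F w = 0 := by
      intro x hx
      induction hx using Submodule.mul_induction_on' with
      | mem_mul_mem r hr s hs =>
        obtain ⟨w, hw⟩ := hμ s hs
        refine ⟨r • w, by rw [map_smul, hw, smul_eq_mul], ?_⟩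
        rw [map_smul]
        change i.app W r • F w = 0
        rw [show i.app W r = 0 from hr, zero_smul]
      | add a _ b _ ha hb =>
        obtain ⟨w, hw, hw'⟩ := ha; obtain ⟨v, hv, hv'⟩ := hb
        exact ⟨w + v, by rw [map_add, hw, hv], by rw [map_add, hw', hv', add_zero]⟩
    obtain ⟨w, hw, hw'⟩ := hmul _ hy
    have hμi : Function.Injective μ := by
      have : (μ : _ → Γ(X, W)) =
          (TensorProduct.rid Γ(X', W') Γ(X, W)) ∘ (J'.subtype.lTensor Γ(X, W)) := by
        funext v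
        induction v using TensorProduct.induction_on with
        | zero => simp
        | add p q hp hq => simp only [Function.comp_apply, map_add] at hp hq ⊢; rw [hp, hq]
        | tmul p q =>
          rw [Function.comp_apply, LinearMap.liftBaseChange_tmul, LinearMap.lTensor_tmul,
            TensorProduct.rid_tmul, smul_eq_mul, Algebra.smul_def, mul_comm]
          rfl
      rw [this]
      exact (LinearEquiv.injective _).comp hinj
    rw [← hμi hw, hw']

end Groth.PrinPartsAux
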