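import Mathlib.RingTheory.Kaehler.Basic
import Mathlib.LinearAlgebra.SymmetricAlgebra.Basic
import Mathlib.LinearAlgebra.TensorProduct.Tower
import Mathlib.Algebra.TrivSqZeroExt.Basic
import Mathlib.RingTheory.TensorProduct.Maps
import Mathlib.RingTheory.IsTensorProduct

universe u
open TensorProduct

namespace Groth.PrinPartsAux

/-- The differentials of a symmetric algebra. -/
theorem bijective_symDiff {R B M : Type u} [CommRing R] [CommRing B] [Algebra R B] [AddCommGroup M]
    [Module R M] (e : SymmetricAlgebra R M ≃ₐ[R] B) :
    Function.Bijective (LinearMap.liftBaseChange B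
      (((KaehlerDifferential.D R B).toLinearMap.comp e.toLinearMap).comp (SymmetricAlgebra.ι R M))) := by
  let Φ := LinearMap.liftBaseChange B
    (((KaehlerDifferential.D R B).toLinearMap.comp e.toLinearMap).comp (SymmetricAlgebra.ι R M))
  let N := B ⊗[R] M
  have : IsCentralScalar B N := ⟨fun r m => by
    induction m using TensorProduct.induction_on with
    | zero => simp
    | tmul b m => rw [smul_tmul', smul_tmul', op_smul_eq_smul]
    | add p q hp hq => rw [smul_add, smul_add, hp, hq]⟩
  let j : M →ₗ[R] TrivSqZeroExt B N :=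
    (TrivSqZeroExt.inlAlgHom R B N).toLinearMap.comp (e.toLinearMap.comp (SymmetricAlgebra.ι R M)) +
      ((TrivSqZeroExt.inrHom B N).restrictScalars R).comp (TensorProduct.mk R B M 1)
  let h : B →ₐ[R] TrivSqZeroExt B N := (SymmetricAlgebra.lift j).comp e.symm.toAlgHom
  have hι : ∀ m, h (e (SymmetricAlgebra.ι R M m)) =
      TrivSqZeroExt.inl (e (SymmetricAlgebra.ι R M m)) + TrivSqZeroExt.inr (1 ⊗ₜ m) := fun m => by
    change SymmetricAlgebra.lift j (e.symm (e _)) = _
    rw [AlgEquiv.symm_apply_apply, SymmetricAlgebra.lift_ι_apply]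
    rfl
  have hfst : ∀ x, (h x).fst = x := fun x => by
    have key : ((TrivSqZeroExt.fstHom R B N).comp h).comp e.toAlgHom = e.toAlgHom :=
      SymmetricAlgebra.algHom_ext (LinearMap.ext fun m => by
        change (h (e (SymmetricAlgebra.ι R M m))).fst = e (SymmetricAlgebra.ι R M m)
        rw [hι]
        simp)
    obtain ⟨y, rfl⟩ := e.surjective x
    exact congr($key y)
  let d : Derivation R B N := Derivation.mk'
    { toFun := fun x => (h x).snd
      map_add' := fun x y => by rw [map_add, TrivSqZeroExt.snd_add]
      map_smul' := fun r x => by rw [map_smul, TrivSqZeroExt.snd_smul]; rfl }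
    fun x y => by
      change (h (x * y)).snd = x • (h y).snd + y • (h x).snd
      rw [map_mul, TrivSqZeroExt.snd_mul, hfst, hfst]
      rw [op_smul_eq_smul]
  have hd : ∀ m, d (e (SymmetricAlgebra.ι R M m)) = 1 ⊗ₜ m := fun m => by
    change (h (e (SymmetricAlgebra.ι R M m))).snd = _
    rw [hι]
    simp
  have hΦ : ∀ b m, Φ (b ⊗ₜ m) = b • KaehlerDifferential.D R B (e (SymmetricAlgebra.ι R M m)) :=
    fun b m => LinearMap.liftBaseChange_tmul ..
  have hl : ∀ z, d.liftKaehlerDifferential (Φ z) = z := fun z => by
    induction z using TensorProduct.induction_on with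
    | zero => simp
    | tmul b m =>
      rw [hΦ, map_smul, Derivation.liftKaehlerDifferential_comp_D, hd, smul_tmul', smul_eq_mul,
        mul_one]
    | add p q hp hq => rw [map_add, map_add, hp, hq]
  have hD : ∀ x, Φ (d x) = KaehlerDifferential.D R B x := by
    intro x
    obtain ⟨y, rfl⟩ := e.surjective x
    induction y using SymmetricAlgebra.induction with
    | algebraMap r => simp
    | ι m => rw [hd, hΦ, one_smul]
    | mul a b ha hb =>
      rw [map_mul, Derivation.leibniz, Derivation.leibniz, map_add, map_smul, map_smul, ha, hb]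
    | add a b ha hb => rw [map_add, map_add, map_add, map_add, ha, hb]
  refine Function.bijective_iff_has_inverse.mpr ⟨d.liftKaehlerDifferential, hl, fun w => ?_⟩
  have hw : w ∈ Submodule.span B (Set.range (KaehlerDifferential.D R B)) := by
    rw [KaehlerDifferential.span_range_derivation]; trivial
  induction hw using Submodule.span_induction with
  | mem w hw =>
    obtain ⟨x, rfl⟩ := hw
    rw [Derivation.liftKaehlerDifferential_comp_D]
    exact hD x
  | zero => simp
  | add p q _ _ hp hq => rw [map_add, map_add]; exact congrArg₂ (· + ·) hp hq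
  | smul b p _ hp => rw [map_smul, map_smul]; exact congrArg (b • ·) hp

end Groth.PrinPartsAux
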